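import Groth.Agent.Lib.NegTwist.Connected
import Groth.Agent.Lib.GrpSchField.DimStalk
import Groth.Agent.Lib.FEt21.PunctSections
import Groth.Agent.Lib.EtFibre.Basic
import Groth.Prelude.Def_Pi1

/-!
# Connectedness of preimages of ample zero loci on normal varieties
-/

set_option linter.style.haveILetI false
set_option backward.isDefEq.respectTransparency false

universe u

open CategoryTheory CategoryTheory.Limits AlgebraicGeometry TopologicalSpace Opposite

noncomputable section

namespace GrothLib.NegTwist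

open GrothLib.InvExt (mres)
open GrothLib.Ample (Cocycle res)

/-- A surjective specializing map does not lower the dimension. -/
theorem topologicalKrullDim_le_of_specializingMap {A B : Type*} [TopologicalSpace A] [TopologicalSpace B]
    [QuasiSober A] [T0Space A] [QuasiSober B] [T0Space B] {f : A → B} (hg : SpecializingMap f)
    (hs : Function.Surjective f) : topologicalKrullDim B ≤ topologicalKrullDim A := by
  letI := specializationOrder A
  letI := specializationOrder B
  rw [EtFibre.topologicalKrullDim_eq_krullDim, EtFibre.topologicalKrullDim_eq_krullDim]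
  have key : ∀ (n : ℕ) (p : LTSeries B), p.length = n → ∀ x, f x = p.last →
      ∃ q : LTSeries A, q.length = n ∧ q.last = x := by
    intro n
    induction n with
    | zero => exact fun p _ x _ => ⟨RelSeries.singleton _ x, rfl, rfl⟩
    | succ n ih =>
      intro p hp x hx
      have hlt : p.eraseLast.last < p.last := p.eraseLast_last_rel_last (by omega)
      obtain ⟨x', hxx', hfx'⟩ := hg (show f x ⤳ p.eraseLast.last by rw [hx]; exact hlt.le)
      obtain ⟨q, hq1, hq2⟩ := ih p.eraseLast (by simp [hp]) x' hfx'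
      have hlt' : x' < x := lt_of_le_of_ne hxx' fun h => by
        rw [h, hx] at hfx'
        exact hlt.ne hfx'.symm
      exact ⟨q.snoc x (by rw [hq2]; exact hlt'), by simp [hq1], RelSeries.last_snoc _ _ _⟩
  refine iSup_le fun p => ?_
  obtain ⟨x, hx⟩ := hs p.last
  obtain ⟨q, hq, -⟩ := key p.length p rfl x hx
  exact le_iSup_of_le q (by rw [hq])

/-- A finite surjection does not lower the dimension. -/
theorem topologicalKrullDim_le_of_finite {X Y : Scheme.{u}} (g : Y ⟶ X) [IsFinite g]
    (hs : Function.Surjective g) : topologicalKrullDim X ≤ topologicalKrullDim Y :=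
  topologicalKrullDim_le_of_specializingMap g.isClosedMap.specializingMap hs

variable {Y : Scheme.{u}} [IsIntegral Y]

/-- A section nonzero at the generic point is a monomorphism. -/
theorem mono_hom_of_generic (c : Cocycle Y) {m : ℕ} (a : c.sect m ⊤) (h : genericPoint Y ∈ c.locus a) :
    Mono (c.hom a) := by
  refine QCoh.mono_of_app_injective _ fun W => (injective_iff_map_eq_zero _).2 fun (r : Γ(Y, W)) hr => ?_
  refine Ample.meq_of_cover (Coh.structureModule Y) (fun i : c.ι => W ⊓ c.D i) (fun _ => inf_le_left)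
    (c.iSup_inf_D W) fun i => ?_
  refine Eq.trans ?_ (map_zero _).symm
  show res (inf_le_left : W ⊓ c.D i ≤ W) r = 0
  by_cases hne : Nonempty (W ⊓ c.D i : Y.Opens)
  · have hr' : r • c.sectRes (le_top : W ≤ ⊤) a = 0 := (c.hom_app_apply a W r).symm.trans hr
    have h2 : res (inf_le_left : W ⊓ c.D i ≤ W) r *
        res (inf_le_inf_right (c.D i) (le_top : W ≤ ⊤)) (a.1 i) = 0 :=
      congrArg (fun t : c.sect m W => t.1 i) hr'
    refine (mul_eq_zero.1 h2).resolve_right fun h0 => ?_
    obtain ⟨⟨z, hz⟩⟩ := hne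
    have hηW : genericPoint Y ∈ W ⊓ c.D i := (genericPoint_specializes z).mem_open (W ⊓ c.D i).2 hz
    have hu : genericPoint Y ∈ Y.basicOpen (res (inf_le_inf_right (c.D i) (le_top : W ≤ ⊤)) (a.1 i)) := by
      rw [Scheme.basicOpen_res]
      exact ⟨hηW, (c.mem_locus_iff a hηW.2).1 h⟩
    rw [h0, Scheme.basicOpen_zero] at hu
    exact hu
  · have : (W ⊓ c.D i : Y.Opens) = ⊥ := Opens.ext (Set.eq_empty_of_forall_notMem fun z hz => hne ⟨⟨z, hz⟩⟩)
    haveI : Subsingleton Γ(Y, W ⊓ c.D i) :=
      CommRingCat.subsingleton_of_isTerminal (Y.sheaf.isTerminalOfEqEmpty this)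
    exact Subsingleton.elim _ _

theorem genericPoint_mem_genLocus {L : Y.Modules} (hL : PicF.IsInvertible L)
    (s : Coh.structureModule Y ⟶ L) [Mono s] : genericPoint Y ∈ CohB1.genLocus L s := by
  obtain ⟨c, ⟨e⟩⟩ := Ample.exists_cocycle hL
  obtain ⟨a, ha⟩ := c.exists_hom_eq (s ≫ e.hom)
  haveI : Mono (c.hom a) := by rw [ha]; infer_instance
  rw [← Ample.genLocus_comp_iso e s, ← ha, c.genLocus_hom a]
  obtain ⟨i, hi⟩ := c.exists_mem (genericPoint Y)
  rw [c.mem_locus_iff a hi]
  have hiW : genericPoint Y ∈ (⊤ : Y.Opens) ⊓ c.D i := ⟨trivial, hi⟩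
  haveI : Nonempty ((⊤ : Y.Opens) ⊓ c.D i : Y.Opens) := ⟨⟨_, hiW⟩⟩
  have hne : a.1 i ≠ 0 := fun h0 => one_ne_zero (α := Γ(Y, ⊤ ⊓ c.D i))
    (Cohom.app_injective_of_mono (c.hom a) (⊤ ⊓ c.D i) (a₁ := (1 : Γ(Y, ⊤ ⊓ c.D i)))
      (a₂ := (0 : Γ(Y, ⊤ ⊓ c.D i))) ((((c.hom_app_apply a _ _).trans (one_smul _ _)).trans
        (c.sect_ext_of_le inf_le_right (?_ : _ = (0 : c.sect 1 (⊤ ⊓ c.D i)).1 i))).trans (map_zero _).symm))
  · obtain ⟨z, hz⟩ : (Y.basicOpen (a.1 i) : Set Y).Nonempty := by
      rw [Set.nonempty_iff_ne_empty]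
      exact fun h => hne ((basicOpen_eq_bot_iff _).1 (Opens.ext h))
    exact (genericPoint_specializes z).mem_open (Y.basicOpen _).2 hz
  · show res (inf_le_inf_right (c.D i) le_top) (a.1 i) = 0
    rw [h0, map_zero]

variable {X : Scheme.{u}} (k : Type u) [Field k] [Y.Over (Spec (CommRingCat.of k))]
  [IsProper (Y ↘ Spec (CommRingCat.of k))]

include k in
/-- On a normal variety of dimension at least two the preimage of an ample zero locus under a finite
map is connected. -/
theorem isConnected_preimage_compl (hY : Pi1.IsNormalScheme Y)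
    (hdim : (2 : WithBot ℕ∞) ≤ topologicalKrullDim Y) (g : Y ⟶ X) [IsFinite g]
    {L : X.Modules} (hL : CohB1.IsAmple L) (s : Coh.structureModule X ⟶ L)
    (hη : g (genericPoint Y) ∈ CohB1.genLocus L s) :
    _root_.IsConnected (g ⁻¹' ((CohB1.genLocus L s : X.Opens) : Set X)ᶜ) := by
  haveI := Euler.isNoetherian_of_proper (X := Y) k
  obtain ⟨c, ⟨e⟩⟩ := Ample.exists_cocycle hL.1
  obtain ⟨a, ha⟩ := c.exists_sect_of_section e s
  obtain ⟨d⟩ := c.nonempty_pullback_iso g e
  have hc' : (c.comap g).IsAmp := (((c.comap g).isAmple_iff d).1 (Ample.isAmple_pullback_of_isAffineHom g hL)).2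
  let a' : (c.comap g).sect 1 ⊤ := c.pullSect g (V := ⊤) le_top a
  have hl : (c.comap g).locus a' = g ⁻¹ᵁ CohB1.genLocus L s := ha ▸ c.locus_pullSect g a
  haveI : Mono ((c.comap g).hom a') := mono_hom_of_generic _ a' (hl.symm ▸ hη)
  have hd : ∀ y : Y, IsClosed ({y} : Set Y) →
      2 ≤ LocCoh.depth (Y.presheaf.stalk y) (Y.presheaf.stalk y) := by
    intro y hy
    haveI := (hY y).1
    haveI := (hY y).2
    refine FEt21.two_le_depth_of_normal _ (hdim.trans (le_of_eq ?_))
    rw [GrpSchField.ringKrullDim_stalk_eq_of_isClosed (Y ↘ Spec (CommRingCat.of k)) isClosed_univ isOpen_univ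
      (IrreducibleSpace.isIrreducible_univ _) (Set.mem_univ y) hy]
    exact (IsHomeomorph.topologicalKrullDim_eq _ (Homeomorph.Set.univ Y).isHomeomorph).symm
  have h := isConnected_compl_locus k (c.comap g) hc' one_pos a' hd
  rw [hl] at h
  exact h

end GrothLib.NegTwist
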