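import Groth.Agent.Lib.NegTwist.Avoid
import Mathlib.RingTheory.Filtration

/-!
# Sections of negative twists vanish when no closed point is associated
-/

set_option linter.style.haveILetI false
set_option backward.isDefEq.respectTransparency false

universe u

open CategoryTheory CategoryTheory.Limits AlgebraicGeometry TopologicalSpace

noncomputable section

namespace GrothLib.NegTwist

open GrothLib.InvExt (mres)
open GrothLib.Ample (Cocycle res)

variable {X : Scheme.{u}} (c : Cocycle X)
variable (k : Type u) [Field k] [X.Over (Spec (CommRingCat.of k))]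

theorem H0top_hhMap {M N : X.Modules} (φ : M ⟶ N) (x : Coh.HH X M 0) :
    ProjCoh.H0top N (Cohom.hhMap k φ 0 x) = φ.app ⊤ (ProjCoh.H0top M x) :=
  ProjCoh.H0top_map _ _

theorem injective_hhMap_zero {M N : X.Modules} (φ : M ⟶ N) [Mono φ] :
    Function.Injective (Cohom.hhMap k φ 0) := fun x y h => by
  refine (ProjCoh.H0top M).injective (Cohom.app_injective_of_mono φ ⊤ ?_)
  rw [← H0top_hhMap k φ x, ← H0top_hhMap k φ y, h]

variable [IsProper (X ↘ Spec (CommRingCat.of k))]

include k in
/-- Negative twists of a coherent module without closed associated points have no sections. -/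
theorem eventually_H0_zero (hc : c.IsAmp) {F : X.Modules} (hF : Coh.IsCoh F)
    (hass : ∀ x : X, Curv2.IsWeakAssPoint F x → ¬ IsClosed ({x} : Set X)) :
    ∃ p₀, ∀ p, p₀ ≤ p → Subsingleton (Coh.HH X (nTwist c F p) 0) := by
  classical
  haveI := Euler.isNoetherian_of_proper (X := X) k
  haveI := hF.1
  obtain ⟨m, a, hm, ha⟩ := exists_sect_finite c hc (finite_weakAss hF)
  haveI hfd : ∀ p, FiniteDimensional k (Coh.HH X (nTwist c F p) 0) := fun p =>
    Euler.finiteDimensional_HH k (isCoh_nTwist c hF p) 0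
  let μ : ∀ {p q : ℕ}, q + m = p → (nTwist c F p ⟶ nTwist c F q) := fun e => negHom c F a e
  have hμ : ∀ {p q : ℕ} (e : q + m = p), Function.Injective (Cohom.hhMap k (μ e) 0) := fun e =>
    haveI := mono_negHom (F := F) c a e ha
    injective_hhMap_zero k _
  have main : ∀ r, ∃ J, ∀ j, J ≤ j → Subsingleton (Coh.HH X (nTwist c F (r + m * j)) 0) := by
    intro r
    let f : ℕ → ℕ := fun j => Module.finrank k (Coh.HH X (nTwist c F (r + m * j)) 0)
    obtain ⟨_, ⟨J, rfl⟩, hJ⟩ := WellFounded.has_min (wellFounded_lt (α := ℕ)) (Set.range f) (Set.range_nonempty f)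
    have hanti : Antitone f := antitone_nat_of_succ_le fun j =>
      LinearMap.finrank_le_finrank_of_injective (hμ (show r + m * j + m = r + m * (j + 1) by ring))
    have heq : ∀ j, J ≤ j → f j = f J := fun j hj =>
      le_antisymm (hanti hj) (not_lt.1 (hJ _ ⟨j, rfl⟩))
    have hsurj : ∀ j, J ≤ j → Function.Surjective
        (Cohom.hhMap k (μ (show r + m * j + m = r + m * (j + 1) by ring)) 0) := fun j hj =>
      (LinearMap.injective_iff_surjective_of_finrank_eq_finrank
        ((heq (j + 1) (by omega)).trans (heq j hj).symm)).1 (hμ _)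
    have hdeep : ∀ N j, J ≤ j → ∀ (s : nsect c F (r + m * j) ⊤) (i : c.ι) (y : X)
        (hy : y ∈ (⊤ : X.Opens) ⊓ c.D i), y ∉ c.locus a →
        F.presheaf.germ _ y hy (s.1 i) ∈ IsLocalRing.maximalIdeal (X.presheaf.stalk y) ^ N •
          (⊤ : Submodule (X.presheaf.stalk y) (F.presheaf.stalk y)) := by
      intro N
      induction N with
      | zero =>
        intro j _ s i y hy _
        rw [pow_zero, Ideal.one_eq_top, Submodule.top_smul]
        trivial
      | succ N ih =>
        intro j hj s i y hy hya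
        obtain ⟨w, hw⟩ := hsurj j hj ((ProjCoh.H0top _).symm s)
        have hs := congrArg (ProjCoh.H0top _) hw
        rw [H0top_hhMap, AddEquiv.apply_symm_apply] at hs
        let w' : nsect c F (r + m * (j + 1)) ⊤ := ProjCoh.H0top _ w
        have hcomp : s.1 i = res (inf_le_inf_right (c.D i) (le_top : (⊤ : X.Opens) ≤ ⊤)) (a.1 i) • w'.1 i :=
          (congrArg (fun t : nsect c F (r + m * j) ⊤ => t.1 i) hs).symm
        rw [hcomp, WeakAss.germ_smul, pow_succ', Submodule.mul_smul]
        refine Submodule.smul_mem_smul ?_ (ih (j + 1) (by omega) w' i y hy hya)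
        erw [TopCat.Presheaf.germ_res_apply]
        refine (IsLocalRing.mem_maximalIdeal _).2 fun hu => hya ((c.mem_locus_iff a hy.2).2 ?_)
        exact (Scheme.mem_basicOpen _ _ y _).2 hu
    refine ⟨J, fun j hj => subsingleton_of_forall_eq 0 fun z => ?_⟩
    refine (ProjCoh.H0top _).injective ?_
    rw [map_zero]
    let s : nsect c F (r + m * j) ⊤ := ProjCoh.H0top _ z
    show s = 0
    refine (inv c).msect_ext fun (i : c.ι) => WeakAss.eq_zero_of_germ _ fun η hη hw => ?_
    obtain ⟨y, hηy, hya⟩ := exists_notMem_locus c k hc hm a (hass η hw)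
    obtain ⟨l, hl⟩ := c.exists_mem y
    have hηl : η ∈ c.D l := hηy.mem_open (c.D l).2 hl
    haveI := QCoh.stalk_finite F hF y
    have h0 : F.presheaf.germ _ y (⟨trivial, hl⟩ : y ∈ (⊤ : X.Opens) ⊓ c.D l) (s.1 l) = 0 := by
      rw [← Submodule.mem_bot (X.presheaf.stalk y), ← Ideal.iInf_pow_smul_eq_bot_of_isLocalRing
        (I := IsLocalRing.maximalIdeal (X.presheaf.stalk y)) (IsLocalRing.maximalIdeal.isMaximal _).ne_top,
        Submodule.mem_iInf]
      exact fun N => hdeep N j hj s l y _ hya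
    obtain ⟨W, hyW, iU, iV, hW⟩ := TopCat.Presheaf.germ_eq F.presheaf y (⟨trivial, hl⟩ : y ∈ (⊤ : X.Opens) ⊓ c.D l) (⟨trivial, hl⟩ : y ∈ (⊤ : X.Opens) ⊓ c.D l) (s.1 l) (0 : Γ(F, (⊤ : X.Opens) ⊓ c.D l))
      (h0.trans (map_zero _).symm)
    rw [map_zero] at hW
    have hWη : η ∈ W := hηy.mem_open W.2 hyW
    let O : X.Opens := ((⊤ : X.Opens) ⊓ c.D i) ⊓ W
    have hOi : O ≤ (⊤ : X.Opens) ⊓ c.D i := inf_le_left
    have hOl : O ≤ (⊤ : X.Opens) ⊓ c.D l := inf_le_right.trans iU.le
    have hzero : mres F hOi (s.1 i) = 0 := by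
      rw [(inv c).msect_spec s i l hOi hOl]
      have : mres F hOl (s.1 l) = mres F (inf_le_right : O ≤ W) (F.presheaf.map iU.op (s.1 l)) :=
        (InvExt.mres_mres F iU.le (inf_le_right : O ≤ W) (s.1 l)).symm
      rw [this, hW]
      exact (congrArg _ (map_zero (F.presheaf.map _).hom)).trans (smul_zero _)
    have hηO : η ∈ O := ⟨hη, hWη⟩
    rw [← TopCat.Presheaf.germ_res_apply F.presheaf (homOfLE hOi) η hηO (s.1 i)]
    exact (congrArg (F.presheaf.germ O η hηO) hzero).trans (map_zero _)
  choose J hJ using main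
  refine ⟨m * ((Finset.range m).sup J + 1), fun p hp => ?_⟩
  have h1 : p % m + m * (p / m) = p := Nat.mod_add_div p m
  rw [← h1]
  refine hJ _ _ ((Finset.le_sup (f := J) (Finset.mem_range.2 (Nat.mod_lt p hm))).trans ?_)
  rw [Nat.le_div_iff_mul_le hm, mul_comm]
  exact le_trans (Nat.mul_le_mul_left _ (Nat.le_succ _)) hp

end GrothLib.NegTwist
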