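import Groth.Agent.Lib.Cube.Pic
import Groth.Agent.Lib.SerreVanish.Main
import Groth.Agent.Lib.QCoh.AvoidSub
import Groth.Agent.Lib.OX.TensorAssoc
import Groth.Agent.Lib.OX.LocFreeTensor
import Groth.Agent.Lib.OX.Tensor
import Groth.Prelude.Def_ClSub2

/-!
# Negative twists: multiplication by a section lowers the degree of a twist by the inverse cocycle
-/

set_option linter.style.haveILetI false
set_option backward.isDefEq.respectTransparency false

universe u

open CategoryTheory CategoryTheory.Limits AlgebraicGeometry TopologicalSpace Opposite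

noncomputable section

namespace GrothLib.NegTwist

open GrothLib.InvExt (mres)
open GrothLib.Ample (Cocycle res app_mres mres_smul' res_res)
open GrothLib.QCoh (stalkLin)

variable {X : Scheme.{u}} (c : Cocycle X)

/-- The inverse cocycle. -/
@[reducible] def inv : Cocycle X where
  ι := c.ι
  D := c.D
  g i k := c.G k i (inf_le_right : c.D i ⊓ c.D k ≤ c.D k) (inf_le_left : c.D i ⊓ c.D k ≤ c.D i)
  cover := c.cover
  self i W h := (Cube.inv c).self i W h
  change i k l W hi hk hl := (Cube.inv c).change i k l W hi hk hl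

theorem inv_G (i k : c.ι) {W : X.Opens} (hi : W ≤ c.D i) (hk : W ≤ c.D k) :
    (inv c).G i k hi hk = c.G k i hk hi :=
  Cube.inv_G c i k hi hk

/-- Twisting `p` times by the inverse. -/
abbrev nTwist (F : X.Modules) (p : ℕ) : X.Modules := (inv c).modTwist F p

/-- The families of sections of a negative twist. -/
abbrev nsect (F : X.Modules) (p : ℕ) (V : X.Opens) : AddSubgroup (∀ i, Γ(F, V ⊓ c.D i)) :=
  (inv c).msect F p V

variable {F : X.Modules} {m p q : ℕ}

theorem nmul_mem (a : c.sect m ⊤) (e : q + m = p) {V : X.Opens} (b : nsect c F p V) :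
    (fun i => res (inf_le_inf_right (c.D i) (le_top : V ≤ ⊤)) (a.1 i) • b.1 i) ∈ nsect c F q V := by
  subst e
  intro (i : c.ι) (j : c.ι) W (hi : W ≤ V ⊓ c.D i) (hj : W ≤ V ⊓ c.D j)
  have hb := (inv c).msect_spec b i j hi hj
  rw [inv_G] at hb
  rw [inv_G, mres_smul', mres_smul', res_res, res_res, hb, smul_smul, smul_smul]
  rw [c.sect_spec a i j (hi.trans (inf_le_inf_right _ le_top)) (hj.trans (inf_le_inf_right _ le_top)),
    pow_add]
  congr 1
  calc c.G i j _ _ ^ m * res _ (a.1 j) * (c.G j i _ _ ^ q * c.G j i _ _ ^ m)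
      = (c.G i j (hi.trans inf_le_right) (hj.trans inf_le_right) *
          c.G j i (hj.trans inf_le_right) (hi.trans inf_le_right)) ^ m *
          (c.G j i (hj.trans inf_le_right) (hi.trans inf_le_right) ^ q *
            res (hj.trans (inf_le_inf_right _ le_top)) (a.1 j)) := by ring
    _ = _ := by rw [c.G_mul_G, one_pow, one_mul]

variable (F) in
/-- Multiplication by a section of degree `m`. -/
def negHom (a : c.sect m ⊤) (e : q + m = p) : nTwist c F p ⟶ nTwist c F q :=
  ⟨{
    app := fun V => ModuleCat.ofHom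
      (X := ((nTwist c F p).val.obj V : Type u))
      (Y := ((nTwist c F q).val.obj V : Type u))
      { toFun := fun (b : nsect c F p V.unop) => (⟨_, nmul_mem c a e b⟩ : nsect c F q V.unop)
        map_add' := fun (b b' : nsect c F p V.unop) => (inv c).msect_ext fun i => smul_add _ _ _
        map_smul' := fun (r : Γ(X, V.unop)) (b : nsect c F p V.unop) =>
          (inv c).msect_ext fun i => smul_comm _ _ _ }
    naturality := fun {V W} f => by
      ext (b : nsect c F p V.unop)
      refine (inv c).msect_ext fun (i : c.ι) => ?_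
      show res (inf_le_inf_right (c.D i) (le_top : W.unop ≤ ⊤)) (a.1 i) •
          mres F (inf_le_inf_right (c.D i) (leOfHom f.unop)) (b.1 i) =
        mres F (inf_le_inf_right (c.D i) (leOfHom f.unop))
          (res (inf_le_inf_right (c.D i) (le_top : V.unop ≤ ⊤)) (a.1 i) • b.1 i)
      rw [mres_smul', res_res] }⟩

theorem negHom_app (a : c.sect m ⊤) (e : q + m = p) {V : X.Opens} (b : nsect c F p V) (i : c.ι) :
    (show nsect c F q V from (negHom c F a e).app V b).1 i =
      res (inf_le_inf_right (c.D i) (le_top : V ≤ ⊤)) (a.1 i) • b.1 i := rfl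

theorem negHom_comm {l r s : ℕ} (a : c.sect m ⊤) (b : c.sect l ⊤) (e₁ : r + m = p) (e₂ : q + l = r)
    (e₃ : s + l = p) (e₄ : q + m = s) :
    negHom c F a e₁ ≫ negHom c F b e₂ = negHom c F b e₃ ≫ negHom c F a e₄ :=
  Scheme.Modules.hom_ext _ _ fun V => by
    ext (t : nsect c F p V)
    exact (inv c).msect_ext fun i => smul_comm _ _ _

theorem negHom_mul {l r : ℕ} (a : c.sect m ⊤) (b : c.sect l ⊤) (e₁ : r + l = p) (e₂ : q + m = r)
    (e : q + (m + l) = p) :
    negHom c F (c.mul a b) e = negHom c F b e₁ ≫ negHom c F a e₂ :=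
  Scheme.Modules.hom_ext _ _ fun V => by
    ext (t : nsect c F p V)
    refine (inv c).msect_ext fun (i : c.ι) => ?_
    show res (inf_le_inf_right (c.D i) (le_top : V ≤ ⊤)) (a.1 i * b.1 i) • t.1 i =
      res (inf_le_inf_right (c.D i) (le_top : V ≤ ⊤)) (a.1 i) •
        res (inf_le_inf_right (c.D i) (le_top : V ≤ ⊤)) (b.1 i) • t.1 i
    rw [map_mul, smul_smul]

theorem negHom_cast {m' : ℕ} (h : m = m') (a : c.sect m ⊤) (e : q + m' = p) :
    negHom c F (c.sectCast h a) e = negHom c F a (h.symm ▸ e) := rfl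

theorem negHom_add (a b : c.sect m ⊤) (e : q + m = p) :
    negHom c F (a + b) e = negHom c F a e + negHom c F b e :=
  Scheme.Modules.hom_ext _ _ fun V => by
    ext (t : nsect c F p V)
    refine (inv c).msect_ext fun (i : c.ι) => ?_
    show res (inf_le_inf_right (c.D i) (le_top : V ≤ ⊤)) (a.1 i + b.1 i) • t.1 i =
      res (inf_le_inf_right (c.D i) (le_top : V ≤ ⊤)) (a.1 i) • t.1 i +
        res (inf_le_inf_right (c.D i) (le_top : V ≤ ⊤)) (b.1 i) • t.1 i
    rw [map_add, add_smul]

theorem negHom_zero (e : q + m = p) : negHom c F (0 : c.sect m ⊤) e = 0 :=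
  Scheme.Modules.hom_ext _ _ fun V => by
    ext (t : nsect c F p V)
    refine (inv c).msect_ext fun (i : c.ι) => ?_
    show res (inf_le_inf_right (c.D i) (le_top : V ≤ ⊤)) (0 : Γ(X, ⊤ ⊓ c.D i)) • t.1 i = 0
    rw [map_zero, zero_smul]

theorem bijective_negHom_app (a : c.sect m ⊤) (e : q + m = p) {V : X.Opens} (hV : V ≤ c.locus a) :
    Function.Bijective ((negHom c F a e).app V) := by
  subst e
  have hu : ∀ i, IsUnit (res (inf_le_inf_right (c.D i) (le_top : V ≤ ⊤)) (a.1 i)) := fun i => by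
    have h : V ⊓ c.D i ≤ X.basicOpen (a.1 i) := by
      rw [← c.locus_inf_D a i]
      exact le_inf ((inf_le_left : V ⊓ c.D i ≤ V).trans hV) inf_le_right
    have e : res (inf_le_inf_right (c.D i) (le_top : V ≤ ⊤)) (a.1 i) =
        res h (res (c.basicOpen_le_D a i) (a.1 i)) := (res_res _ _ _).symm
    rw [e]
    exact (RingedSpace.isUnit_res_basicOpen X.toRingedSpace (a.1 i)).map _
  constructor
  · intro (b : nsect c F (q + m) V) b' h
    exact (inv c).msect_ext fun i => (hu i).smul_left_cancel.1 (congrArg (fun t : nsect c F q V => t.1 i) h)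
  · intro (t : nsect c F q V)
    refine ⟨(⟨fun i => (↑(hu i).unit⁻¹ : Γ(X, V ⊓ c.D i)) • t.1 i, ?_⟩ : nsect c F (q + m) V), ?_⟩
    · intro (i : c.ι) (j : c.ι) W (hi : W ≤ V ⊓ c.D i) (hj : W ≤ V ⊓ c.D j)
      have hri : IsUnit (res (hi.trans (inf_le_inf_right (c.D i) (le_top : V ≤ ⊤))) (a.1 i)) := by
        have := (hu i).map (X.presheaf.map (homOfLE hi).op).hom
        erw [res_res] at this
        exact this
      refine hri.smul_left_cancel.1 ?_
      have ei : res (hi.trans (inf_le_inf_right (c.D i) (le_top : V ≤ ⊤))) (a.1 i) •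
          mres F hi ((↑(hu i).unit⁻¹ : Γ(X, V ⊓ c.D i)) • t.1 i) = mres F hi (t.1 i) := by
        rw [← res_res (inf_le_inf_right (c.D i) (le_top : V ≤ ⊤)) hi, ← mres_smul', smul_smul,
          IsUnit.mul_val_inv, one_smul]
      have ej : res (hj.trans (inf_le_inf_right (c.D j) (le_top : V ≤ ⊤))) (a.1 j) •
          mres F hj ((↑(hu j).unit⁻¹ : Γ(X, V ⊓ c.D j)) • t.1 j) = mres F hj (t.1 j) := by
        rw [← res_res (inf_le_inf_right (c.D j) (le_top : V ≤ ⊤)) hj, ← mres_smul', smul_smul,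
          IsUnit.mul_val_inv, one_smul]
      refine ei.trans (((inv c).msect_spec t i j hi hj).trans ?_)
      rw [← ej, smul_smul, smul_smul]
      refine congrArg (fun z : Γ(X, W) => z • mres F hj ((↑(hu j).unit⁻¹ : Γ(X, V ⊓ c.D j)) • t.1 j)) ?_
      rw [inv_G, c.sect_spec a i j (hi.trans (inf_le_inf_right (c.D i) (le_top : V ≤ ⊤)))
        (hj.trans (inf_le_inf_right (c.D j) (le_top : V ≤ ⊤))), pow_add]
      calc c.G j i (hj.trans inf_le_right) (hi.trans inf_le_right) ^ q * res _ (a.1 j)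
          = (c.G i j (hi.trans inf_le_right) (hj.trans inf_le_right) *
              c.G j i (hj.trans inf_le_right) (hi.trans inf_le_right)) ^ m *
              (c.G j i (hj.trans inf_le_right) (hi.trans inf_le_right) ^ q * res _ (a.1 j)) := by
            rw [c.G_mul_G, one_pow, one_mul]
        _ = _ := by ring
    · refine (inv c).msect_ext fun (i : c.ι) => ?_
      show res (inf_le_inf_right (c.D i) (le_top : V ≤ ⊤)) (a.1 i) •
        (↑(hu i).unit⁻¹ : Γ(X, V ⊓ c.D i)) • t.1 i = t.1 i
      rw [smul_smul, IsUnit.mul_val_inv, one_smul]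

theorem bijective_stalk_negHom (a : c.sect m ⊤) (e : q + m = p) {x : X} (hx : x ∈ c.locus a) :
    Function.Bijective (stalkLin (negHom c F a e) x) :=
  Euler.stalkLin_bijective_of_app_bijective _ hx fun _ hT => bijective_negHom_app c a e hT

theorem mono_negHom [F.IsQuasicoherent] (a : c.sect m ⊤) (e : q + m = p)
    (h : ∀ x, Curv2.IsWeakAssPoint F x → x ∈ c.locus a) : Mono (negHom c F a e) := by
  refine QCoh.mono_of_app_injective _ fun V => (injective_iff_map_eq_zero _).2 fun (b : nsect c F p V) hb => ?_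
  refine (inv c).msect_ext fun (i : c.ι) => WeakAss.eq_zero_of_germ _ fun x hx hw => ?_
  have hu : IsUnit (X.presheaf.germ _ x hx (res (inf_le_inf_right (c.D i) (le_top : V ≤ ⊤)) (a.1 i))) := by
    erw [TopCat.Presheaf.germ_res_apply]
    refine (Scheme.mem_basicOpen _ _ x _).1 ?_
    exact (c.mem_locus_iff a hx.2).1 (h x hw)
  refine hu.smul_eq_zero.1 ?_
  rw [← WeakAss.germ_smul hx, ← negHom_app c a e b i,
    show (negHom c F a e).app V b = (0 : Γ(nTwist c F q, V)) from hb]
  exact map_zero _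

theorem isCoh_nTwist [IsLocallyNoetherian X] (hF : Coh.IsCoh F) (p : ℕ) : Coh.IsCoh (nTwist c F p) :=
  Euler.isCoh_modTwist (inv c) hF p

theorem mtwistMap_negHom (n : ℕ) (a : c.sect m ⊤) (e : q + m = p) {p' q' : ℕ} (ep : n + p = p')
    (eq : n + q = q') (e' : q' + m = p') :
    (inv c).mtwistMap (negHom c F a e) n ≫ SerreVanish.twistTwist (inv c) F n eq =
      SerreVanish.twistTwist (inv c) F n ep ≫ negHom c F a e' :=
  Scheme.Modules.hom_ext _ _ fun V => by
    ext (b : (inv c).msect (nTwist c F p) n V)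
    refine (inv c).msect_ext fun (i : c.ι) => ?_
    refine (SerreVanish.twistTwist_app (inv c) F n eq _ i).trans ?_
    change mres F (le_inf le_rfl inf_le_right)
        (res (inf_le_inf_right (c.D i) (le_top : V ⊓ c.D i ≤ ⊤)) (a.1 i) •
          (show nsect c F p (V ⊓ c.D i) from b.1 i).1 i) =
      res (inf_le_inf_right (c.D i) (le_top : V ≤ ⊤)) (a.1 i) •
        mres F (le_inf le_rfl inf_le_right) ((show nsect c F p (V ⊓ c.D i) from b.1 i).1 i)
    rw [mres_smul', res_res]

/-- The inverse of an invertible module is the twist by the inverse cocycle. -/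
theorem nonempty_iso_inv {L M : X.Modules} (hM : ClSub.IsInverseOf L M) (e : L ≅ c.twist 1) :
    Nonempty (M ≅ (inv c).twist 1) := by
  obtain ⟨eM⟩ := hM
  obtain ⟨h⟩ := Cube.eqv_prod_inv c
  obtain ⟨t⟩ := (inv c).nonempty_tensorMod_iso_prod c (Iso.refl ((inv c).twist 1)) e
  obtain ⟨o⟩ := Cocycle.nonempty_structureModule_iso_triv (X := X)
  let T := DCoh.tensorBi (X := X)
  -- `inv ⊗ L ≅ O`
  let u₁ : (T.obj ((inv c).twist 1)).obj L ≅ Coh.structureModule X := t ≪≫ h ≪≫ o.symm
  exact ⟨(OX.tensorUnitLeftIso M).symm ≪≫ (T.mapIso u₁.symm).app M ≪≫ OX.tensorAssoc _ L M ≪≫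
    (T.obj ((inv c).twist 1)).mapIso eM ≪≫
    (OX.tensorBraiding.app ((inv c).twist 1)).symm.app (Coh.structureModule X) ≪≫
    OX.tensorUnitLeftIso _⟩

theorem nonempty_tensor_pow_inv {L M : X.Modules} (hM : ClSub.IsInverseOf L M) (e : L ≅ c.twist 1)
    (F : X.Modules) (n : ℕ) :
    Nonempty (CohB1.tensorMod F (CohB1.tensorPow M n) ≅ nTwist c F n) := by
  obtain ⟨e'⟩ := nonempty_iso_inv c hM e
  obtain ⟨d⟩ := (inv c).nonempty_tensorPow_iso e' n
  obtain ⟨t⟩ := (inv c).nonempty_tensor_modTwist F n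
  exact ⟨((DCoh.tensorBi (X := X)).obj F).mapIso d ≪≫ t⟩

end GrothLib.NegTwist
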