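import Groth.Agent.Lib.NegTwist.Basic
import Groth.Agent.Lib.Snapper.TopDecomp
import Groth.Agent.Lib.Ample.RelAmple

/-!
# Sections avoiding finitely many points
-/

set_option linter.style.haveILetI false
set_option backward.isDefEq.respectTransparency false

universe u

open CategoryTheory CategoryTheory.Limits AlgebraicGeometry TopologicalSpace

noncomputable section

namespace GrothLib.NegTwist

open GrothLib.Ample (Cocycle res)

variable {X : Scheme.{u}} (c : Cocycle X)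

theorem finite_weakAss [IsNoetherian X] {F : X.Modules} (hF : Coh.IsCoh F) :
    {x | Curv2.IsWeakAssPoint F x}.Finite := by
  obtain ⟨ι, _, W, hW, -, hcov⟩ := QCoh.exists_finite_affine_cover (U := (⊤ : X.Opens)) isCompact_univ
  refine (Set.finite_iUnion fun i => QCoh.finite_weakAssPoints F hF (hW i)).subset fun x hx => ?_
  obtain ⟨i, hi⟩ := Opens.mem_iSup.1 (hcov (Opens.mem_top x))
  exact Set.mem_iUnion.2 ⟨i, hi, hx⟩

/-- Finitely many points can be avoided within a class of sections stable under multiples and sums. -/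
theorem exists_sect_avoid [CompactSpace X] (hc : c.IsAmp) {T : Set X} (hT : T.Finite)
    (Good : ∀ m, c.sect m ⊤ → Prop)
    (hcast : ∀ {m l : ℕ} (h : m = l) (v : c.sect m ⊤), Good m v → Good l (c.sectCast h v))
    (hmul : ∀ {m l : ℕ} (v : c.sect m ⊤) (w : c.sect l ⊤), Good m v → Good (m + l) (c.mul v w))
    (hadd : ∀ {m : ℕ} (v w : c.sect m ⊤), Good m v → Good m w → Good m (v + w))
    (h0 : ∀ m, Good m 0)
    (h : ∀ η ∈ T, ∃ (m : ℕ) (v : c.sect m ⊤), Good m v ∧ η ∈ c.locus v) :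
    ∃ (m : ℕ) (v : c.sect m ⊤), 0 < m ∧ Good m v ∧ ∀ η ∈ T, η ∈ c.locus v := by
  classical
  let P := hT.toFinset.filter fun η => ∀ η' ∈ T, η ⤳ η' → η' = η
  have hP : ∀ η, η ∈ T → ∃ π ∈ P, η ⤳ π := by
    intro η hη
    let f : X → ℕ := fun x => (hT.toFinset.filter fun z => x ⤳ z).card
    obtain ⟨π, hπ, hmin⟩ := (hT.toFinset.filter fun z => η ⤳ z).exists_min_image f
      ⟨η, Finset.mem_filter.2 ⟨hT.mem_toFinset.2 hη, specializes_rfl⟩⟩
    obtain ⟨hπT, hηπ⟩ := Finset.mem_filter.1 hπ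
    refine ⟨π, Finset.mem_filter.2 ⟨hπT, fun z hz hπz => ?_⟩, hηπ⟩
    by_contra hne
    have hle := hmin z (Finset.mem_filter.2 ⟨hT.mem_toFinset.2 hz, hηπ.trans hπz⟩)
    refine absurd hle (not_le.2 (Finset.card_lt_card ⟨fun y hy => ?_, fun hsub => hne ?_⟩))
    · simp only [Finset.mem_filter] at hy ⊢
      exact ⟨hy.1, hπz.trans hy.2⟩
    · have := Finset.mem_filter.1 (hsub (Finset.mem_filter.2 ⟨hπT, specializes_rfl⟩))
      exact (this.2.antisymm hπz).eq
  have hPT : ∀ η ∈ P, η ∈ T := fun η hη => hT.mem_toFinset.1 (Finset.mem_filter.1 hη).1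
  have hw : ∀ η ∈ P, ∃ (e : ℕ) (w : c.sect (e + 1) ⊤), η ∈ c.locus w ∧
      ∀ η' ∈ P, η' ≠ η → η' ∉ c.locus w := by
    intro η hη
    let C : Set X := ⋃ η' ∈ P.erase η, closure {η'}
    have hC : IsClosed C := isClosed_biUnion_finset fun _ _ => isClosed_closure
    have hηC : η ∉ C := fun hmem => by
      obtain ⟨η', hη', hcl⟩ := Set.mem_iUnion₂.1 hmem
      obtain ⟨hne, hη'P⟩ := Finset.mem_erase.1 hη'
      exact hne ((Finset.mem_filter.1 hη'P).2 η (hPT η hη) (specializes_iff_mem_closure.2 hcl)).symm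
    obtain ⟨e, w, h1, h2, -⟩ := c.exists_affine_locus_le hc (O := ⟨Cᶜ, hC.isOpen_compl⟩) hηC
    exact ⟨e, w, h1, fun η' hη' hne hmem => h2 hmem
      (Set.mem_iUnion₂.2 ⟨η', Finset.mem_erase.2 ⟨hne, hη'⟩, subset_closure rfl⟩)⟩
  choose! e w hw₁ hw₂ using hw
  choose! mv v hv₁ hv₂ using fun η (hη : η ∈ P) => h η (hPT η hη)
  let d : X → ℕ := fun η => mv η + (e η + 1)
  let D : ℕ := ∏ η ∈ P, d η
  have hD : 0 < D := Finset.prod_pos fun η _ => by simp only [d]; omega
  have hy : ∀ η ∈ P, ∃ y : c.sect D ⊤, Good D y ∧ η ∈ c.locus y ∧ ∀ η' ∈ P, η' ≠ η → η' ∉ c.locus y := by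
    intro η hη
    obtain ⟨r, hr⟩ : d η ∣ D := Finset.dvd_prod_of_mem _ hη
    obtain ⟨j, rfl⟩ : ∃ j, r = j + 1 := ⟨r - 1, by rcases Nat.eq_zero_or_pos r with h | h <;> [simp [h] at hr; skip] <;> omega⟩
    let x : c.sect (d η) ⊤ := c.mul (v η) (w η)
    have hdeg : mv η + (e η + 1 + d η * j) = D := by rw [hr]; simp only [d]; ring
    refine ⟨c.sectCast hdeg (c.mul (v η) (c.mul (w η) (c.sectPow x j))),
      hcast hdeg _ (hmul _ _ (hv₁ η hη)), ?_, fun η' hη' hne => ?_⟩
    · rw [c.locus_sectCast, c.locus_mul, c.locus_mul]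
      refine ⟨hv₂ η hη, hw₁ η hη, c.le_locus_sectPow x j ?_⟩
      rw [c.locus_mul]
      exact ⟨hv₂ η hη, hw₁ η hη⟩
    · rw [c.locus_sectCast, c.locus_mul, c.locus_mul]
      exact fun hm => hw₂ η hη η' hη' hne hm.2.1
  choose! y hy₁ hy₂ hy₃ using hy
  refine ⟨D, ∑ η ∈ P, y η, hD, Finset.sum_induction _ (Good D) hadd (h0 D) hy₁, fun η hη => ?_⟩
  obtain ⟨π, hπ, hηπ⟩ := hP η hη
  refine hηπ.mem_open (c.locus _).2 ?_
  obtain ⟨i, hi⟩ := c.exists_mem π
  have hmem : π ∈ (⊤ : X.Opens) ⊓ c.D i := ⟨trivial, hi⟩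
  show π ∈ c.locus _
  rw [c.mem_locus_iff _ hi, Scheme.mem_basicOpen _ _ π hmem]
  rw [AddSubgroup.val_finsetSum, Finset.sum_apply, map_sum, ← Finset.add_sum_erase _ _ hπ]
  by_contra hu
  have hrest : ∑ z ∈ P.erase π, X.presheaf.germ _ π hmem ((y z).1 i) ∈
      IsLocalRing.maximalIdeal (X.presheaf.stalk π) := Ideal.sum_mem _ fun z hz => by
    obtain ⟨hne, hzP⟩ := Finset.mem_erase.1 hz
    have := hy₃ z hzP π hπ (Ne.symm hne)
    rw [c.mem_locus_iff _ hi, Scheme.mem_basicOpen _ _ π hmem] at this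
    exact (IsLocalRing.mem_maximalIdeal _).2 this
  have hmain : IsUnit (X.presheaf.germ _ π hmem ((y π).1 i)) :=
    (Scheme.mem_basicOpen _ _ π hmem).1 ((c.mem_locus_iff _ hi).1 (hy₂ π hπ))
  refine IsLocalRing.notMem_maximalIdeal.2 hmain ?_
  have hs : X.presheaf.germ _ π hmem ((y π).1 i) + ∑ z ∈ P.erase π, X.presheaf.germ _ π hmem ((y z).1 i) ∈
      IsLocalRing.maximalIdeal (X.presheaf.stalk π) := (IsLocalRing.mem_maximalIdeal _).2 hu
  exact (Submodule.add_mem_iff_left _ hrest).1 hs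

/-- Some section of positive degree has a given finite set in its locus. -/
theorem exists_sect_finite [CompactSpace X] (hc : c.IsAmp) {T : Set X} (hT : T.Finite) :
    ∃ (m : ℕ) (v : c.sect m ⊤), 0 < m ∧ ∀ η ∈ T, η ∈ c.locus v := by
  obtain ⟨m, v, hm, -, hv⟩ := exists_sect_avoid c hc hT (fun _ _ => True) (fun _ _ _ => trivial)
    (fun _ _ _ => trivial) (fun _ _ _ _ => trivial) (fun _ => trivial) fun η _ => by
      obtain ⟨n, a, ha, -, -⟩ := c.exists_affine_locus_le hc (O := ⊤) (p := η) trivial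
      exact ⟨n + 1, a, trivial, ha⟩
  exact ⟨m, v, hm, hv⟩

variable (k : Type u) [Field k] [X.Over (Spec (CommRingCat.of k))] [IsProper (X ↘ Spec (CommRingCat.of k))]

include k in
/-- The closure of a non-closed point leaves every locus. -/
theorem exists_notMem_locus [CompactSpace X] (hc : c.IsAmp) {m : ℕ} (hm : 0 < m) (a : c.sect m ⊤) {η : X}
    (hη : ¬ IsClosed ({η} : Set X)) : ∃ y, η ⤳ y ∧ y ∉ c.locus a := by
  by_contra hcon
  push Not at hcon
  refine hη ?_
  let I := Scheme.IdealSheafData.vanishingIdeal (⟨closure ({η} : Set X), isClosed_closure⟩ : Closeds X)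
  let ι := I.subschemeι
  letI : I.subscheme.Over (Spec (CommRingCat.of k)) := ⟨ι ≫ X ↘ Spec (CommRingCat.of k)⟩
  haveI : IsProper (I.subscheme ↘ Spec (CommRingCat.of k)) :=
    inferInstanceAs (IsProper (ι ≫ X ↘ Spec (CommRingCat.of k)))
  haveI : IsIntegral I.subscheme := Snapper.isIntegral_pt η
  obtain ⟨d⟩ := c.nonempty_pullback_iso ι (Iso.refl (c.twist 1))
  have hca : (c.comap ι).IsAmp := (((c.comap ι).isAmple_iff d).1
    (Ample.isAmple_pullback_of_isAffineHom ι ((c.isAmple_iff (Iso.refl _)).2 ⟨inferInstance, hc⟩))).2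
  let a' : (c.comap ι).sect m ⊤ := c.pullSect ι (V := ⊤) le_top a
  have hl : (c.comap ι).locus a' = ⊤ := by
    refine (c.locus_pullSect ι a).trans (top_le_iff.1 fun z _ => ?_)
    refine hcon _ (specializes_iff_mem_closure.2 ?_)
    rw [← Snapper.range_pt η]
    exact ⟨z, rfl⟩
  haveI := (c.comap ι).isIso_hom_of_locus_eq_top a' hl
  obtain ⟨q⟩ := (c.comap ι).nonempty_pow_twist m 1
  have hO : CohB1.IsAmple (Coh.structureModule I.subscheme) :=
    (((c.comap ι).pow m).isAmple_iff (asIso ((c.comap ι).hom a') ≪≫ eqToIso (by rw [mul_one]) ≪≫ q.symm)).2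
      ⟨(Euler.isNoetherian_of_proper (X := I.subscheme) k).toCompactSpace, ((c.comap ι).isAmp_pow_iff hm).2 hca⟩
  haveI hqa : I.subscheme.IsQuasiAffine := Ample.isQuasiAffine_iff.2 hO
  haveI : Subsingleton (Spec Γ(I.subscheme, ⊤)) := by
    letI := (isField_of_universallyClosed k (I.subscheme ↘ Spec (CommRingCat.of k))).toField
    exact inferInstanceAs (Subsingleton (PrimeSpectrum Γ(I.subscheme, ⊤)))
  haveI : Subsingleton I.subscheme :=
    I.subscheme.toSpecΓ.isEmbedding.injective.subsingleton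
  have hs : closure ({η} : Set X) = {η} := by
    refine Set.Subset.antisymm (fun z hz => ?_) subset_closure
    rw [← Snapper.range_pt η] at hz
    obtain ⟨z', rfl⟩ := hz
    have hη' : η ∈ closure ({η} : Set X) := subset_closure rfl
    rw [← Snapper.range_pt η] at hη'
    obtain ⟨η', hη''⟩ := hη'
    exact (congrArg _ (Subsingleton.elim z' η')).trans hη''
  exact hs ▸ isClosed_closure

end GrothLib.NegTwist
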