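import Groth.Agent.Lib.NegTwist.Basic
import Groth.Prelude.Def_CAlg
import Mathlib.RingTheory.Regular.RegularSequence
import Mathlib.RingTheory.Nakayama
import Mathlib.RingTheory.Noetherian.Basic

/-!
# Depth conditions and associated points of the cokernel of a multiplication
-/

set_option linter.style.haveILetI false
set_option backward.isDefEq.respectTransparency false

universe u v

open CategoryTheory CategoryTheory.Limits AlgebraicGeometry TopologicalSpace

noncomputable section

namespace GrothLib.NegTwist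

open GrothLib.InvExt (mres)
open GrothLib.Ample (Cocycle res)
open GrothLib.QCoh (stalkLin)
open RingTheory.Sequence

section Alg

variable {R : Type u} [CommRing R] [IsLocalRing R] {N : Type v} [AddCommGroup N] [Module R N]

theorem subsingleton_of_smul_top [Module.Finite R N]
    (h : IsLocalRing.maximalIdeal R • (⊤ : Submodule R N) = ⊤) : Subsingleton N := by
  rw [← Submodule.subsingleton_iff R, ← subsingleton_iff_bot_eq_top, eq_comm]
  exact Submodule.eq_bot_of_le_smul_of_le_jacobson_bot _ ⊤ Module.Finite.fg_top h.ge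
    (IsLocalRing.maximalIdeal_le_jacobson ⊥)

/-- Positive depth gives a regular element. -/
theorem exists_regular (hd : 1 ≤ LocCoh.depth R N)
    (h : IsLocalRing.maximalIdeal R • (⊤ : Submodule R N) ≠ ⊤) :
    ∃ r ∈ IsLocalRing.maximalIdeal R, ∀ n : N, r • n = 0 → n = 0 := by
  rw [LocCoh.depth, LocCoh.idealDepth, if_neg h] at hd
  have h0 : (0 : ℕ∞) < _ := lt_of_lt_of_le zero_lt_one hd
  obtain ⟨rs, h1⟩ := lt_iSup_iff.1 h0
  obtain ⟨⟨hreg, hmem⟩, hlen⟩ := lt_iSup_iff.1 h1
  match rs, hreg, hmem, hlen with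
  | [], _, _, hlen => simp at hlen
  | r :: rest, hreg, hmem, _ =>
    rw [isWeaklyRegular_cons_iff] at hreg
    exact ⟨r, hmem r (by simp), fun n => isSMulRegular_iff_right_eq_zero_of_smul.1 hreg.1 n⟩

/-- Depth at least two gives a regular pair. -/
theorem exists_regular_pair (hd : 2 ≤ LocCoh.depth R N)
    (h : IsLocalRing.maximalIdeal R • (⊤ : Submodule R N) ≠ ⊤) :
    ∃ r ∈ IsLocalRing.maximalIdeal R, ∃ s ∈ IsLocalRing.maximalIdeal R,
      (∀ n : N, r • n = 0 → n = 0) ∧ ∀ n a : N, s • n = r • a → ∃ b, n = r • b := by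
  rw [LocCoh.depth, LocCoh.idealDepth, if_neg h] at hd
  have h0 : (1 : ℕ∞) < _ := lt_of_lt_of_le Nat.one_lt_ofNat hd
  obtain ⟨rs, h1⟩ := lt_iSup_iff.1 h0
  obtain ⟨⟨hreg, hmem⟩, hlen⟩ := lt_iSup_iff.1 h1
  match rs, hreg, hmem, hlen with
  | [], _, _, hlen => simp at hlen
  | [_], _, _, hlen => simp at hlen
  | r :: s :: rest, hreg, hmem, _ =>
    rw [isWeaklyRegular_cons_iff, isWeaklyRegular_cons_iff] at hreg
    refine ⟨r, hmem r (by simp), s, hmem s (by simp),
      fun n => isSMulRegular_iff_right_eq_zero_of_smul.1 hreg.1 n, fun n a hna => ?_⟩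
    have hz : s • (Submodule.Quotient.mk n : QuotSMulTop r N) = 0 := by
      rw [← Submodule.Quotient.mk_smul, Submodule.Quotient.mk_eq_zero, hna]
      exact Submodule.smul_mem_pointwise_smul a r ⊤ trivial
    obtain ⟨b, -, hb⟩ := (Submodule.mem_smul_pointwise_iff_exists _ _ _).1
      ((Submodule.Quotient.mk_eq_zero _).1 (isSMulRegular_iff_right_eq_zero_of_smul.1 hreg.2.1 _ hz))
    exact ⟨b, hb.symm⟩

/-- With depth two, the quotient by a regular element has no element killed by a power of the maximal ideal. -/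
theorem exists_smul_eq_of_pow [Module.Finite R N] (hd : 2 ≤ LocCoh.depth R N) (v : R)
    (hv : ∀ n : N, v • n = 0 → n = 0) :
    ∀ (e : ℕ) (n : N), (∀ x ∈ IsLocalRing.maximalIdeal R ^ e, ∃ a, x • n = v • a) → ∃ a, n = v • a := by
  by_cases h : IsLocalRing.maximalIdeal R • (⊤ : Submodule R N) = ⊤
  · haveI := subsingleton_of_smul_top h
    exact fun _ n _ => ⟨0, Subsingleton.elim _ _⟩
  obtain ⟨r, hr, s, hs, hr0, hs0⟩ := exists_regular_pair hd h
  intro e
  induction e with
  | zero =>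
    intro n hn
    obtain ⟨a, ha⟩ := hn 1 (by simp)
    exact ⟨a, by rw [← ha, one_smul]⟩
  | succ e ih =>
    intro n hn
    have hstep : ∀ y ∈ IsLocalRing.maximalIdeal R, ∃ a, y • n = v • a := fun y hy => by
      refine ih (y • n) fun x hx => ?_
      obtain ⟨a, ha⟩ := hn (x * y) (pow_succ (IsLocalRing.maximalIdeal R) e ▸ Ideal.mul_mem_mul hx hy)
      exact ⟨a, by rw [← ha, mul_smul]⟩
    obtain ⟨a, ha⟩ := hstep r hr
    obtain ⟨b, hb⟩ := hstep s hs
    have hsa : s • a = r • b := by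
      refine sub_eq_zero.1 (hv _ ?_)
      rw [smul_sub, smul_comm v s, smul_comm v r, ← ha, ← hb, smul_comm s r, sub_self]
    obtain ⟨c, rfl⟩ := hs0 a b hsa
    refine ⟨c, sub_eq_zero.1 (hr0 _ ?_)⟩
    rw [smul_sub, ha, smul_comm r v, sub_self]

theorem depth_congr {N' : Type v} [AddCommGroup N'] [Module R N'] (e : N ≃ₗ[R] N') :
    LocCoh.depth R N = LocCoh.depth R N' := by
  have h : (IsLocalRing.maximalIdeal R • (⊤ : Submodule R N) = ⊤) ↔
      (IsLocalRing.maximalIdeal R • (⊤ : Submodule R N') = ⊤) := by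
    rw [← (Submodule.map_injective_of_injective e.injective).eq_iff, Submodule.map_smul'', Submodule.map_top,
      LinearEquiv.range]
  classical
  simp only [LocCoh.depth, LocCoh.idealDepth, h, e.isWeaklyRegular_congr]

end Alg

variable {X : Scheme.{u}}

/-- A closed point with positive depth is not weakly associated. -/
theorem not_weakAss_of_depth [IsLocallyNoetherian X] {F : X.Modules} (hF : Coh.IsCoh F) {x : X}
    (hd : 1 ≤ LocCoh.depth (X.presheaf.stalk x) (F.presheaf.stalk x)) : ¬ Curv2.IsWeakAssPoint F x := by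
  rintro ⟨n, hn⟩
  have htop : (1 : X.presheaf.stalk x) ∉ IsLocalRing.maximalIdeal (X.presheaf.stalk x) :=
    (Ideal.ne_top_iff_one _).1 (IsLocalRing.maximalIdeal.isMaximal _).ne_top
  haveI := QCoh.stalk_finite F hF x
  have hn0 : n = 0 := by
    by_cases h : IsLocalRing.maximalIdeal (X.presheaf.stalk x) •
        (⊤ : Submodule (X.presheaf.stalk x) (F.presheaf.stalk x)) = ⊤
    · haveI := subsingleton_of_smul_top h
      exact Subsingleton.elim _ _
    obtain ⟨r, hr, hr0⟩ := exists_regular hd h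
    obtain ⟨e, he⟩ : r ∈ Ideal.radical (LinearMap.ker
        (LinearMap.toSpanSingleton (X.presheaf.stalk x) (F.presheaf.stalk x) n)) := hn.symm ▸ hr
    rw [LinearMap.mem_ker, LinearMap.toSpanSingleton_apply] at he
    clear hn
    induction e generalizing n with
    | zero => simpa using he
    | succ e ih =>
      rw [pow_succ, mul_smul] at he
      exact hr0 n (ih (r • n) he)
  subst hn0
  refine htop (hn ▸ Ideal.le_radical ?_)
  rw [LinearMap.mem_ker, LinearMap.toSpanSingleton_apply, smul_zero]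

variable (c : Cocycle X) {F : X.Modules}

/-- The germ of a section in the trivialisation of a piece. -/
def germBase (p : ℕ) (i : c.ι) {W : X.Opens} (hW : W ≤ c.D i) {x : X} (hx : x ∈ W) (μ : Γ(F, W)) :
    (nTwist c F p).presheaf.stalk x :=
  (nTwist c F p).presheaf.germ W x hx ((inv c).mbase p i hW μ)

theorem exists_germBase (p : ℕ) (i : c.ι) {x : X} (hxi : x ∈ c.D i) (z : (nTwist c F p).presheaf.stalk x) :
    ∃ (W : X.Opens) (hW : W ≤ c.D i) (hx : x ∈ W) (μ : Γ(F, W)), z = germBase c p i hW hx μ := by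
  obtain ⟨W₀, hx₀, w, rfl⟩ := TopCat.Presheaf.exists_germ_eq (nTwist c F p).presheaf z
  let w' : nsect c F p (W₀ ⊓ c.D i) := (nTwist c F p).presheaf.map (homOfLE inf_le_left).op w
  refine ⟨W₀ ⊓ c.D i, inf_le_right, ⟨hx₀, hxi⟩, mres F (le_inf le_rfl inf_le_right) (w'.1 i), ?_⟩
  rw [germBase, ← (inv c).eq_mbase (n := p) i (inf_le_right : W₀ ⊓ c.D i ≤ c.D i) w']
  exact (TopCat.Presheaf.germ_res_apply (nTwist c F p).presheaf (homOfLE inf_le_left) x ⟨hx₀, hxi⟩ w).symm

theorem stalk_negHom_germBase {m p q : ℕ} (a : c.sect m ⊤) (e : q + m = p) (i : c.ι) {W : X.Opens}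
    (hW : W ≤ c.D i) {x : X} (hx : x ∈ W) (μ : Γ(F, W)) :
    stalkLin (negHom c F a e) x (germBase c p i hW hx μ) =
      X.presheaf.germ W x hx (res (le_inf le_top hW) (a.1 i)) • germBase c q i hW hx μ := by
  rw [germBase, germBase, QCoh.stalkLin_germ, ← WeakAss.germ_smul hx]
  congr 1
  refine (inv c).msect_ext_of_le (i := i) hW ?_
  show res (inf_le_inf_right (c.D i) (le_top : W ≤ ⊤)) (a.1 i) • ((inv c).mbase p i hW μ).1 i =
    res (inf_le_left : W ⊓ c.D i ≤ W) (res (le_inf le_top hW) (a.1 i)) • ((inv c).mbase q i hW μ).1 i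
  rw [Cocycle.mbase_self, Cocycle.mbase_self, Ample.res_res]

theorem germ_eq_zero_of_germBase {p : ℕ} {i : c.ι} {W : X.Opens} {hW : W ≤ c.D i} {x : X} {hx : x ∈ W}
    {μ : Γ(F, W)} (h : germBase c p i hW hx μ = 0) : F.presheaf.germ W x hx μ = 0 := by
  obtain ⟨U, hxU, iU, iV, hU⟩ := TopCat.Presheaf.germ_eq (nTwist c F p).presheaf x hx hx
    ((inv c).mbase p i hW μ) (0 : Γ(nTwist c F p, W)) (h.trans (map_zero _).symm)
  rw [map_zero] at hU
  have h1 : mres F (inf_le_inf_right (c.D i) iU.le) (((inv c).mbase p i hW μ).1 i) = 0 :=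
    congrArg (fun t : nsect c F p U => t.1 i) hU
  rw [Cocycle.mbase_self, InvExt.mres_mres] at h1
  have hxU' : x ∈ U ⊓ c.D i := ⟨hxU, hW hx⟩
  rw [← TopCat.Presheaf.germ_res_apply F.presheaf (homOfLE (inf_le_left.trans iU.le : U ⊓ c.D i ≤ W)) x hxU' μ]
  exact (congrArg (F.presheaf.germ _ x hxU') h1).trans (map_zero _)

theorem germBase_eq_zero {p : ℕ} {i : c.ι} {W : X.Opens} {hW : W ≤ c.D i} {x : X} {hx : x ∈ W}
    {μ : Γ(F, W)} (h : F.presheaf.germ W x hx μ = 0) : germBase c p i hW hx μ = 0 := by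
  obtain ⟨U, hxU, iU, iV, hU⟩ := TopCat.Presheaf.germ_eq F.presheaf x hx hx μ (0 : Γ(F, W))
    (h.trans (map_zero _).symm)
  rw [map_zero] at hU
  rw [germBase, ← TopCat.Presheaf.germ_res_apply (nTwist c F p).presheaf iU x hxU]
  refine (congrArg ((nTwist c F p).presheaf.germ U x hxU) (show
    (nTwist c F p).presheaf.map iU.op ((inv c).mbase p i hW μ) = 0 from ?_)).trans (map_zero _)
  refine (inv c).msect_ext_of_le (i := i) (iU.le.trans hW) ?_
  show mres F (inf_le_inf_right (c.D i) iU.le) (((inv c).mbase p i hW μ).1 i) = 0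
  rw [Cocycle.mbase_self, InvExt.mres_mres, ← InvExt.mres_mres F iU.le (inf_le_left : U ⊓ c.D i ≤ U)]
  exact (congrArg (mres F (inf_le_left : U ⊓ c.D i ≤ U)) hU).trans (map_zero _)

/-- If every closed point has depth two, the cokernel of a regular multiplication has no closed associated point. -/
theorem not_weakAss_cokernel [IsLocallyNoetherian X] (hF : Coh.IsCoh F) {m p q : ℕ} (a : c.sect m ⊤)
    (e : q + m = p) [Mono (negHom c F a e)] {x : X}
    (hd : 2 ≤ LocCoh.depth (X.presheaf.stalk x) (F.presheaf.stalk x)) :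
    ¬ Curv2.IsWeakAssPoint (cokernel (negHom c F a e)) x := by
  rintro ⟨z, hz⟩
  let μ := negHom c F a e
  let π := cokernel.π μ
  haveI : Module.Finite (X.presheaf.stalk x) ((nTwist c F q).presheaf.stalk x) :=
    QCoh.stalk_finite _ (isCoh_nTwist c hF q) x
  obtain ⟨eT⟩ := (inv c).nonempty_tensor_modTwist F q
  obtain ⟨ePi⟩ := Euler.nonempty_stalk_equiv_pi (M := F)
    (Euler.isFinLocFreeOfRank_one' ((inv c).isInvertible_twist q)) x
  have eS : (nTwist c F q).presheaf.stalk x ≃ₗ[X.presheaf.stalk x] F.presheaf.stalk x :=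
    (((OX.stalk x).mapIso eT).symm.toLinearEquiv.trans ePi).trans
      (LinearEquiv.funUnique (Fin 1) (X.presheaf.stalk x) _)
  obtain ⟨i, hi⟩ := c.exists_mem x
  let v := X.presheaf.germ _ x (show x ∈ (⊤ : X.Opens) ⊓ c.D i from ⟨trivial, hi⟩) (a.1 i)
  have hcalc : ∀ {W : X.Opens} (hW : W ≤ c.D i) (hx : x ∈ W) (ν : Γ(F, W)),
      stalkLin μ x (germBase c p i hW hx ν) = v • germBase c q i hW hx ν := fun hW hx ν => by
    refine (stalk_negHom_germBase c a e i hW hx ν).trans ?_
    erw [TopCat.Presheaf.germ_res_apply]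
  have hv : ∀ n : (nTwist c F q).presheaf.stalk x, v • n = 0 → n = 0 := by
    intro n hn
    obtain ⟨W, hW, hx, ν, rfl⟩ := exists_germBase c q i hi n
    refine germBase_eq_zero c (germ_eq_zero_of_germBase c (p := p) (i := i) (hW := hW) (hx := hx) ?_)
    refine QCoh.stalkLin_injective μ x ((hcalc hW hx ν).trans ?_)
    rw [hn, map_zero]
  obtain ⟨n, rfl⟩ := QCoh.stalkLin_surjective π x z
  have hS : (ShortComplex.mk μ π (cokernel.condition μ)).Exact :=
    ShortComplex.exact_of_g_is_cokernel _ (cokernelIsCokernel μ)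
  have hex := (OX.exact_iff _).1 hS x
  rw [ShortComplex.moduleCat_exact_iff] at hex
  obtain ⟨E, hE⟩ := Ideal.exists_pow_le_of_le_radical_of_fg hz.ge (IsNoetherian.noetherian _)
  have hker : ∀ w, stalkLin π x w = 0 → ∃ b, w = v • b := fun w hw => by
    obtain ⟨b, hb⟩ := hex w hw
    change stalkLin μ x b = w at hb
    obtain ⟨W, hW, hx, ν, rfl⟩ := exists_germBase c p i hi b
    exact ⟨germBase c q i hW hx ν, hb.symm.trans (hcalc hW hx ν)⟩
  obtain ⟨b, rfl⟩ := exists_smul_eq_of_pow ((depth_congr eS).symm ▸ hd) v hv E n fun r hr => hker _ (by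
    rw [map_smul]
    have := hE hr
    rw [LinearMap.mem_ker, LinearMap.toSpanSingleton_apply] at this
    exact this)
  refine (Ideal.ne_top_iff_one _).1 (IsLocalRing.maximalIdeal.isMaximal (X.presheaf.stalk x)).ne_top
    (hz ▸ Ideal.le_radical ?_)
  rw [LinearMap.mem_ker, LinearMap.toSpanSingleton_apply]
  obtain ⟨W, hW, hx, ν, rfl⟩ := exists_germBase c q i hi b
  rw [one_smul, ← hcalc hW hx ν, ← QCoh.stalkLin_comp, cokernel.condition, germBase, QCoh.stalkLin_germ]
  exact map_zero _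

end GrothLib.NegTwist
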