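import Groth.Agent.Lib.NegTwist.H0
import Groth.Agent.Lib.NegTwist.Depth

/-!
# First cohomology of negative twists vanishes in depth two
-/

set_option linter.style.haveILetI false
set_option backward.isDefEq.respectTransparency false

universe u

open CategoryTheory CategoryTheory.Limits AlgebraicGeometry TopologicalSpace Opposite

noncomputable section

namespace GrothLib.NegTwist

open GrothLib.InvExt (mres)
open GrothLib.Ample (Cocycle res)
open GrothLib.QCoh (stalkLin)

variable {X : Scheme.{u}} (c : Cocycle X) {F : X.Modules}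
variable (k : Type u) [Field k] [X.Over (Spec (CommRingCat.of k))]

theorem hhMap_add {M N : X.Modules} (φ ψ : M ⟶ N) (i : ℕ) :
    Cohom.hhMap k (φ + ψ) i = Cohom.hhMap k φ i + Cohom.hhMap k ψ i := by
  refine LinearMap.ext fun x => ?_
  rw [LinearMap.add_apply, Cohom.hhMap_apply, Cohom.hhMap_apply, Cohom.hhMap_apply, Functor.map_add,
    Cohom.H_map_eq_comp, Cohom.H_map_eq_comp, Cohom.H_map_eq_comp, Abelian.Ext.mk₀_add, Abelian.Ext.comp_add]

theorem hhMap_zero (M N : X.Modules) (i : ℕ) : Cohom.hhMap k (0 : M ⟶ N) i = 0 := by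
  have := hhMap_add k (0 : M ⟶ N) 0 i
  rw [zero_add] at this
  exact left_eq_add.1 this

/-- The action of a section on cohomology, additively. -/
def actHom {m p q : ℕ} (e : q + m = p) (i : ℕ) :
    c.sect m ⊤ →+ (Coh.HH X (nTwist c F p) i →ₗ[k] Coh.HH X (nTwist c F q) i) where
  toFun a := Cohom.hhMap k (negHom c F a e) i
  map_zero' := by rw [negHom_zero, hhMap_zero]
  map_add' a b := by rw [negHom_add, hhMap_add]

theorem actHom_smul {m p q : ℕ} (e : q + m = p) (i : ℕ) (r : k) (a : c.sect m ⊤) :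
    actHom c k (F := F) e i ((show Γ(X, ⊤) from Coh.toGlobal (X ↘ Spec (CommRingCat.of k)) r) • a) =
      r • actHom c k e i a := by
  let g : Γ(X, ⊤) := Coh.toGlobal (X ↘ Spec (CommRingCat.of k)) r
  have h : (QCoh.toAbFun X).map (negHom c F (g • a) e) =
      (QCoh.toAbFun X).map (negHom c F a e) ≫ Coh.smulAb _ g := by
    ext V (b : nsect c F p V.unop)
    refine (inv c).msect_ext fun (l : c.ι) => ?_
    show res (inf_le_inf_right (c.D l) (le_top : V.unop ≤ ⊤))
        (res (inf_le_left : ⊤ ⊓ c.D l ≤ ⊤) g * a.1 l) • b.1 l =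
      res (inf_le_left : V.unop ⊓ c.D l ≤ V.unop) (res (le_top : V.unop ≤ ⊤) g) •
        res (inf_le_inf_right (c.D l) (le_top : V.unop ≤ ⊤)) (a.1 l) • b.1 l
    rw [map_mul, smul_smul, Ample.res_res, Ample.res_res]
  refine LinearMap.ext fun x => ?_
  show Sheaf.H.map ((QCoh.toAbFun X).map (negHom c F (g • a) e)) i x = _
  rw [h, Sheaf.H.map_comp_apply]
  rfl

variable {k}

theorem germ_scalar_isUnit {y : X} {O : X.Opens} (hy : y ∈ O) {r : k} (hr : r ≠ 0) :
    IsUnit (X.presheaf.germ O y hy (res le_top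
      (show Γ(X, ⊤) from Coh.toGlobal (X ↘ Spec (CommRingCat.of k)) r))) :=
  (((isUnit_iff_ne_zero.2 hr).map (Coh.toGlobal (X ↘ Spec (CommRingCat.of k)))).map
    (X.presheaf.map (homOfLE le_top).op).hom).map (X.presheaf.germ O y hy).hom

variable (k)

/-- A family of `D + 1` sections no nonzero combination of which vanishes at a given point. -/
theorem exists_free_family [CompactSpace X] (hc : c.IsAmp) {η : X} (hη : ¬ IsClosed ({η} : Set X)) :
    ∀ D : ℕ, ∃ (m : ℕ) (σ : Fin (D + 1) → c.sect m ⊤), ∀ cf : Fin (D + 1) → k, cf ≠ 0 →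
      η ∈ c.locus (∑ j, (show Γ(X, ⊤) from Coh.toGlobal (X ↘ Spec (CommRingCat.of k)) (cf j)) • σ j) := by
  classical
  intro D
  obtain ⟨y, hy, hne⟩ : ∃ y, η ⤳ y ∧ y ≠ η := by
    by_contra hcon
    push Not at hcon
    refine hη (closure_eq_iff_isClosed.1 (Set.Subset.antisymm (fun z hz => ?_) subset_closure))
    exact hcon z (specializes_iff_mem_closure.2 hz)
  have hηy : η ∉ closure ({y} : Set X) := fun h =>
    hne ((specializes_iff_mem_closure.2 h).antisymm hy).eq
  obtain ⟨eu, u, hu₁, hu₂, -⟩ := c.exists_affine_locus_le hc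
    (O := ⟨(closure ({y} : Set X))ᶜ, isClosed_closure.isOpen_compl⟩) hηy
  obtain ⟨et, t, ht, -, -⟩ := c.exists_affine_locus_le hc (O := ⊤) (p := y) trivial
  let U : c.sect ((eu + 1) * (et + 1)) ⊤ := c.sectPow u (et + 1)
  let T : c.sect ((eu + 1) * (et + 1)) ⊤ := c.sectCast (mul_comm _ _) (c.sectPow t (eu + 1))
  have hU₁ : η ∈ c.locus U := c.le_locus_sectPow u _ hu₁
  have hU₂ : y ∉ c.locus U := fun h => hu₂ ((c.locus_sectPow u (Nat.succ_pos _)).le h) (subset_closure rfl)
  have hT : y ∈ c.locus T := c.le_locus_sectPow t _ ht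
  let d := (eu + 1) * (et + 1)
  let σ : Fin (D + 1) → c.sect (d * D) ⊤ := fun j =>
    c.sectCast (by rw [← mul_add, Nat.add_sub_cancel' (Nat.lt_succ_iff.1 j.2)])
      (c.mul (c.sectPow U j.1) (c.sectPow T (D - j.1)))
  refine ⟨d * D, σ, fun cf hcf => ?_⟩
  obtain ⟨j₁, hj₁⟩ := Function.ne_iff.1 hcf
  obtain ⟨j₀, hj₀, hmin⟩ := (Finset.univ.filter fun j => cf j ≠ 0).exists_min_image id
    ⟨j₁, Finset.mem_filter.2 ⟨Finset.mem_univ _, hj₁⟩⟩
  obtain ⟨i, hi⟩ := c.exists_mem y
  have hηi : η ∈ c.D i := hy.mem_open (c.D i).2 hi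
  let O : X.Opens := ⊤ ⊓ c.D i
  have hyO : y ∈ O := ⟨trivial, hi⟩
  let sc : Fin (D + 1) → Γ(X, O) := fun j =>
    res le_top (show Γ(X, ⊤) from Coh.toGlobal (X ↘ Spec (CommRingCat.of k)) (cf j))
  let g : Γ(X, O) := ∑ j, sc j * (U.1 i ^ (j.1 - j₀.1) * T.1 i ^ (D - j.1))
  have hcomb : (∑ j, (show Γ(X, ⊤) from Coh.toGlobal (X ↘ Spec (CommRingCat.of k)) (cf j)) • σ j).1 i =
      U.1 i ^ j₀.1 * g := by
    rw [AddSubgroup.val_finsetSum, Finset.sum_apply, Finset.mul_sum]
    refine Finset.sum_congr rfl fun j _ => ?_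
    show sc j * (U.1 i ^ j.1 * T.1 i ^ (D - j.1)) = _
    by_cases hj : cf j = 0
    · have : sc j = 0 := by simp only [sc, hj, map_zero]
      rw [this, zero_mul, zero_mul, mul_zero]
    · have hle : j₀.1 ≤ j.1 := hmin j (Finset.mem_filter.2 ⟨Finset.mem_univ _, hj⟩)
      obtain ⟨e, he⟩ := Nat.exists_eq_add_of_le hle
      rw [he, Nat.add_sub_cancel_left, pow_add]
      ring
  have hg : y ∈ X.basicOpen g := by
    rw [Scheme.mem_basicOpen _ _ y hyO]
    simp only [g]
    rw [← Finset.add_sum_erase _ _ (Finset.mem_univ j₀), map_add, map_sum]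
    by_contra hu
    have hUm : X.presheaf.germ O y hyO (U.1 i) ∈ IsLocalRing.maximalIdeal (X.presheaf.stalk y) :=
      (IsLocalRing.mem_maximalIdeal _).2 fun h =>
        hU₂ ((c.mem_locus_iff U hi).2 ((Scheme.mem_basicOpen _ _ y hyO).2 h))
    have hrest : ∑ j ∈ Finset.univ.erase j₀, X.presheaf.germ O y hyO
        (sc j * (U.1 i ^ (j.1 - j₀.1) * T.1 i ^ (D - j.1))) ∈
          IsLocalRing.maximalIdeal (X.presheaf.stalk y) := Ideal.sum_mem _ fun j hj => by
      rw [map_mul, map_mul, map_pow]
      by_cases hcj : cf j = 0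
      · have : sc j = 0 := by simp only [sc, hcj, map_zero]
        rw [this, map_zero, zero_mul]
        exact zero_mem _
      · refine Ideal.mul_mem_left _ _ (Ideal.mul_mem_right _ _ (Ideal.pow_mem_of_mem _ hUm _ ?_))
        have hle : j₀.1 ≤ j.1 := hmin j (Finset.mem_filter.2 ⟨Finset.mem_univ _, hcj⟩)
        have := Fin.val_ne_of_ne (Finset.mem_erase.1 hj).1
        omega
    have hmain : IsUnit (X.presheaf.germ O y hyO
        (sc j₀ * (U.1 i ^ (j₀.1 - j₀.1) * T.1 i ^ (D - j₀.1)))) := by
      rw [Nat.sub_self, pow_zero, one_mul, map_mul, map_pow]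
      exact (germ_scalar_isUnit hyO (Finset.mem_filter.1 hj₀).2).mul
        (((Scheme.mem_basicOpen _ _ y hyO).1 ((c.mem_locus_iff T hi).1 hT)).pow _)
    exact IsLocalRing.notMem_maximalIdeal.2 hmain
      ((Submodule.add_mem_iff_left _ hrest).1 ((IsLocalRing.mem_maximalIdeal _).2 hu))
  rw [c.mem_locus_iff _ hηi, hcomb, Scheme.basicOpen_mul]
  refine ⟨?_, hy.mem_open (X.basicOpen g).2 hg⟩
  rcases Nat.eq_zero_or_pos j₀.1 with h0 | h0
  · rw [h0, pow_zero, Scheme.basicOpen_of_isUnit _ isUnit_one]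
    exact ⟨trivial, hηi⟩
  · rw [Scheme.basicOpen_pow _ _ h0]
    exact (c.mem_locus_iff U hηi).1 hU₁

variable [IsProper (X ↘ Spec (CommRingCat.of k))]

include k in
/-- Multiplication by a section avoiding the associated points is eventually injective on first cohomology. -/
theorem eventually_injective (hc : c.IsAmp) (hF : Coh.IsCoh F)
    (hdepth : ∀ x : X, IsClosed ({x} : Set X) → 2 ≤ LocCoh.depth (X.presheaf.stalk x) (F.presheaf.stalk x))
    {m : ℕ} (v : c.sect m ⊤) (hv : ∀ x, Curv2.IsWeakAssPoint F x → x ∈ c.locus v) :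
    ∃ P, ∀ p q, P ≤ q → ∀ e : q + m = p, Function.Injective (Cohom.hhMap k (negHom c F v e) 1) := by
  haveI := Euler.isNoetherian_of_proper (X := X) k
  haveI := hF.1
  let μ := negHom c F v (zero_add m : 0 + m = m)
  haveI : Mono μ := mono_negHom c v _ hv
  let S : ShortComplex X.Modules := ShortComplex.mk μ (cokernel.π μ) (cokernel.condition μ)
  have hS : S.ShortExact := by
    haveI : Mono S.f := ‹Mono μ›
    exact { exact := ShortComplex.exact_of_g_is_cokernel _ (cokernelIsCokernel μ) }
  have hQ : Coh.IsCoh (cokernel μ) := QCoh.isCoh_cokernel μ (isCoh_nTwist c hF m) (isCoh_nTwist c hF 0)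
  obtain ⟨P, hP⟩ := eventually_H0_zero c k hc hQ fun x hx hcl =>
    not_weakAss_cokernel c hF v _ (hdepth x hcl) hx
  refine ⟨P, fun p q hq e => (injective_iff_map_eq_zero _).2 fun z hz => ?_⟩
  have hT := SerreVanish.twistSeq_shortExact (inv c) q hS
  let TT := SerreVanish.twistTwist (inv c) F q (p := m) (q := p) e
  let T₀ := SerreVanish.twistTwist (inv c) F q (p := 0) (q := q) (add_zero q)
  have hsq := mtwistMap_negHom c q v (zero_add m) (F := F) (p' := p) (q' := q) e (add_zero q) e
  obtain ⟨z', rfl⟩ := SerreVanish.surjective_hhMap_of_isIso k TT 1 z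
  have h1 : Cohom.hhMap k T₀ 1 (Cohom.hhMap k ((inv c).mtwistMap μ q) 1 z') = 0 := by
    rw [← Euler.hhMap_comp, hsq, Euler.hhMap_comp]
    exact hz
  have h2 : Cohom.hhMap k ((inv c).mtwistMap μ q) 1 z' = 0 := by
    have h3 := congrArg (Cohom.hhMap k (CategoryTheory.inv T₀) 1) h1
    rwa [map_zero, ← Euler.hhMap_comp, IsIso.hom_inv_id, SerreVanish.hhMap_id] at h3
  haveI : Subsingleton (Coh.HH X (SerreVanish.twistSeq (inv c) q S).X₃ 0) := hP q hq
  obtain ⟨w, hw⟩ := (Cohom.exact₁ (A := k) hT 0 z').1 h2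
  rw [← hw, Subsingleton.elim w 0, map_zero, map_zero]

include k in
/-- In depth two, negative twists lose their first cohomology. -/
theorem eventually_H1_zero (hc : c.IsAmp) (hF : Coh.IsCoh F)
    (hdepth : ∀ x : X, IsClosed ({x} : Set X) → 2 ≤ LocCoh.depth (X.presheaf.stalk x) (F.presheaf.stalk x)) :
    ∃ p₀, ∀ p, p₀ ≤ p → Subsingleton (Coh.HH X (nTwist c F p) 1) := by
  classical
  haveI := Euler.isNoetherian_of_proper (X := X) k
  haveI := hF.1
  haveI hfd : ∀ p, FiniteDimensional k (Coh.HH X (nTwist c F p) 1) := fun p =>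
    Euler.finiteDimensional_HH k (isCoh_nTwist c hF p) 1
  have hT := finite_weakAss hF
  obtain ⟨a, t, ha, ht⟩ := exists_sect_finite c hc hT
  obtain ⟨P, hP⟩ := eventually_injective c k hc hF hdepth t ht
  let f : ℕ → ℕ := fun p => Module.finrank k (Coh.HH X (nTwist c F p) 1)
  let C := (Finset.range a).sup fun r => f (P + r)
  have hbound : ∀ p, P ≤ p → f p ≤ C := by
    intro p
    induction p using Nat.strong_induction_on with
    | _ p ih =>
      intro hp
      by_cases h : p < P + a
      · obtain ⟨r, rfl⟩ := Nat.exists_eq_add_of_le hp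
        exact Finset.le_sup (f := fun r => f (P + r)) (Finset.mem_range.2 (by omega))
      · have e : p - a + a = p := Nat.sub_add_cancel (by omega)
        exact (LinearMap.finrank_le_finrank_of_injective (hP p (p - a) (by omega) e)).trans
          (ih (p - a) (by omega) (by omega))
  have main : ∀ r, ∃ J, ∀ j, J ≤ j → Subsingleton (Coh.HH X (nTwist c F (P + r + a * j)) 1) := by
    intro r
    let n := P + r
    let Good : ∀ m, c.sect m ⊤ → Prop := fun m v =>
      ∀ p (e : n + m = p), Cohom.hhMap k (negHom c F v e) 1 = 0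
    have hex : ∀ η ∈ {x | Curv2.IsWeakAssPoint F x}, ∃ (m : ℕ) (v : c.sect m ⊤), Good m v ∧ η ∈ c.locus v := by
      intro η hη
      have hncl : ¬ IsClosed ({η} : Set X) := fun hcl =>
        not_weakAss_of_depth hF (le_trans one_le_two (hdepth η hcl)) hη
      obtain ⟨m, σ, hσ⟩ := exists_free_family c k hc hncl (C * C)
      let Φ : (Fin (C * C + 1) → k) →ₗ[k]
          (Coh.HH X (nTwist c F (n + m)) 1 →ₗ[k] Coh.HH X (nTwist c F n) 1) :=
        ∑ j, (LinearMap.proj j).smulRight (actHom c k (F := F) (rfl : n + m = n + m) 1 (σ j))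
      obtain ⟨cf, hcf, hne⟩ : ∃ cf, Φ cf = 0 ∧ cf ≠ 0 := by
        by_contra h
        push Not at h
        have := LinearMap.finrank_le_finrank_of_injective ((injective_iff_map_eq_zero Φ).2 h)
        rw [Module.finrank_linearMap, Module.finrank_fin_fun] at this
        have := this.trans (Nat.mul_le_mul (hbound (n + m) (by simp only [n]; omega))
          (hbound n (by simp only [n]; omega)))
        omega
      refine ⟨m, _, ?_, hσ cf hne⟩
      rintro p rfl
      show actHom c k (F := F) (rfl : n + m = n + m) 1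
        (∑ j, (show Γ(X, ⊤) from Coh.toGlobal (X ↘ Spec (CommRingCat.of k)) (cf j)) • σ j) = 0
      rw [map_sum, ← hcf, LinearMap.sum_apply]
      exact Finset.sum_congr rfl fun j _ => actHom_smul c k (rfl : n + m = n + m) 1 (cf j) (σ j)
    obtain ⟨M, v, hM, hv, hvT⟩ := exists_sect_avoid c hc hT Good
      (by rintro m l rfl v hv; exact hv)
      (fun {m l} v w hv p e => by
        rw [negHom_mul c v w (r := n + m) (show n + m + l = p by omega) rfl e]
        refine LinearMap.ext fun x => ?_
        rw [Euler.hhMap_comp, hv _ rfl]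
        rfl)
      (fun {m} v w hv hw p e => by rw [negHom_add, hhMap_add, hv p e, hw p e, add_zero])
      (fun m p e => by rw [negHom_zero, hhMap_zero]) hex
    have hzero : ∀ j p (e : n + a * j + M = p), Cohom.hhMap k (negHom c F v e) 1 = 0 := by
      intro j
      induction j with
      | zero => intro p e; exact hv p e
      | succ j ih =>
        intro p e
        refine LinearMap.ext fun x => ?_
        have hinj := hP (n + a * (j + 1)) (n + a * j) (by simp only [n]; omega) (by ring)
        refine hinj (Eq.trans ?_ (map_zero _).symm)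
        rw [← Euler.hhMap_comp, negHom_comm c v t e (show n + a * j + a = n + a * (j + 1) by ring)
          (show (n + a * j + M) + a = p by rw [← e]; ring) rfl, Euler.hhMap_comp, ih _ rfl]
        rfl
    obtain ⟨Pv, hPv⟩ := eventually_injective c k hc hF hdepth v hvT
    -- twists by `n + a j + M` vanish for large `j`
    have hvan : ∀ j, Pv ≤ n + a * j → Subsingleton (Coh.HH X (nTwist c F (n + a * j + M)) 1) := fun j hj =>
      subsingleton_of_forall_eq 0 fun x => hPv _ _ hj rfl (by rw [hzero j _ rfl, map_zero]; rfl)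
    -- move by multiples of `a` using injectivity
    have hdown : ∀ i p q, P ≤ q → q + a * i = p → Subsingleton (Coh.HH X (nTwist c F q) 1) →
        Subsingleton (Coh.HH X (nTwist c F p) 1) := by
      intro i
      induction i with
      | zero => rintro p q - rfl h; exact h
      | succ i ih =>
        rintro p q hq rfl h
        haveI := ih (q + a * i) q hq rfl h
        exact (hP _ _ (le_add_right hq) (by ring : q + a * i + a = q + a * (i + 1))).subsingleton
    -- `M` copies of `v` make the degree shift a multiple of `a`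
    have hstep : ∀ i j, Pv ≤ n + a * j → Subsingleton (Coh.HH X (nTwist c F (n + a * j + M * (i + 1))) 1) := by
      intro i
      induction i with
      | zero => intro j hj; simpa using hvan j hj
      | succ i ih =>
        intro j hj
        haveI := ih j hj
        exact (hPv _ _ (le_add_right hj) (by ring :
          n + a * j + M * (i + 1) + M = n + a * j + M * (i + 1 + 1))).subsingleton
    refine ⟨Pv + M, fun j hj => ?_⟩
    have hb : Pv ≤ n + a * (Pv) := le_trans (Nat.le_mul_of_pos_left _ ha) (Nat.le_add_left _ _)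
    have h0 := hstep (a - 1) Pv hb
    rw [Nat.sub_add_cancel ha] at h0
    exact hdown (j - Pv - M) _ _ (by simp only [n]; omega)
      (by rw [show a * j = a * (Pv + M + (j - Pv - M)) by congr 1; omega]; ring) h0
  choose J hJ using main
  refine ⟨P + a * ((Finset.range a).sup J + 1), fun p hp => ?_⟩
  have h1 : P + (p - P) % a + a * ((p - P) / a) = p := by
    rw [add_assoc, Nat.mod_add_div]; omega
  rw [← h1]
  refine hJ _ _ ((Finset.le_sup (f := J) (Finset.mem_range.2 (Nat.mod_lt (p - P) ha))).trans ?_)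
  rw [Nat.le_div_iff_mul_le ha, mul_comm]
  rw [mul_add, mul_one] at hp
  omega

end GrothLib.NegTwist
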