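import Groth.Agent.Lib.NegTwist.H1
import Groth.Agent.Lib.QCoh.SchSupport
import Groth.Agent.Lib.QCoh.Extension
import Groth.Agent.Lib.Snapper.Positive
import Groth.Agent.Lib.AssPts.Flat
import Groth.Prelude.Def_PicF2
import Mathlib.RingTheory.Artinian.Module

/-!
# Connectedness of zero loci in depth two
-/

set_option linter.style.haveILetI false
set_option backward.isDefEq.respectTransparency false

universe u

open CategoryTheory CategoryTheory.Limits AlgebraicGeometry TopologicalSpace Opposite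

noncomputable section

namespace GrothLib.NegTwist

open GrothLib.InvExt (mres)
open GrothLib.Ample (Cocycle res)
open GrothLib.QCoh (stalkLin)

variable {X : Scheme.{u}}

/-- The zero scheme of a monomorphic section is supported off the generation locus. -/
theorem support_zeroScheme [IsNoetherian X] {L : X.Modules} (hL : PicF.IsInvertible L)
    (s : Coh.structureModule X ⟶ L) [Mono s] :
    ((PicF2.zeroScheme L s).support : Set X) = ((CohB1.genLocus L s : X.Opens) : Set X)ᶜ := by
  have hO : Coh.IsCoh (Coh.structureModule X) := Euler.isCoh_of_isInvertible Euler.isInvertible_structure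
  have hQ : Coh.IsCoh (cokernel s) := QCoh.isCoh_cokernel s hO (Euler.isCoh_of_isInvertible hL)
  haveI := hQ.1
  let S : ShortComplex X.Modules := ShortComplex.mk s (cokernel.π s) (cokernel.condition s)
  have hS : S.ShortExact := by
    haveI : Mono S.f := ‹Mono s›
    exact { exact := ShortComplex.exact_of_g_is_cokernel _ (cokernelIsCokernel s) }
  haveI : S.X₁.IsQuasicoherent := hO.1
  have hval : ∀ (U : X.Opens) (b : Γ(X, U)),
      s.app U b = b • (show Γ(L, U) from PicF2.secVal L s U) := fun U b => by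
    refine Eq.trans ?_ ((s.val.app (op U)).hom.map_smul b (1 : X.ringCatSheaf.obj.obj (op U)))
    exact congrArg (s.val.app (op U)).hom (mul_one b).symm
  have hideal : (fun U : X.affineOpens => show Ideal Γ(X, U) from PicF2.zeroIdealOn L s U.1) =
      (QCoh.annIdeal (cokernel s) hQ.2).ideal := by
    funext U
    ext a
    rw [QCoh.annIdeal_ideal, Module.mem_annihilator]
    constructor
    · intro h q
      obtain ⟨m, rfl⟩ := QCoh.app_surjective_of_isAffineOpen hS U.2 q
      obtain ⟨b, hb⟩ := h m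
      refine (Ample.app_smul (cokernel.π s) a m).symm.trans ?_
      refine (congrArg ((cokernel.π s).app U.1) (hb.trans (hval U.1 b).symm)).trans ?_
      rw [← ConcreteCategory.comp_apply, ← Scheme.Modules.Hom.comp_app, cokernel.condition]
      rfl
    · intro h m
      obtain ⟨b, hb⟩ := Cohom.sections_exact (QCoh.toAbFun_map_shortExact S hS) U.1
        ((show Γ(X, U.1) from a) • (show Γ(L, U.1) from m))
        ((Ample.app_smul (cokernel.π s) a m).trans (h _))
      exact ⟨b, hb.symm.trans (hval U.1 b)⟩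
  rw [PicF2.zeroScheme, hideal, Scheme.IdealSheafData.ofIdeals_ideal, QCoh.coe_support_annIdeal]
  ext x
  refine ⟨fun hx hxs => QCoh.notMem_support_cokernel_of_surjective s
    (Snapper.stalk_bijective_of_mem_genLocus s hxs).2 hx, fun hx => ?_⟩
  by_contra hxQ
  refine hx (Snapper.le_genLocus s ⟨_, (QCoh.isClosed_support_of_isCoh hQ).isOpen_compl⟩ (fun y hy => ?_) hxQ)
  refine ⟨QCoh.stalkLin_injective s y, fun w => ?_⟩
  haveI := QCoh.stalk_subsingleton_of_notMem (M := cokernel s) hy
  have hex := (OX.exact_iff S).1 hS.exact y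
  rw [ShortComplex.moduleCat_exact_iff] at hex
  exact hex w (Subsingleton.elim (α := (cokernel s).presheaf.stalk y) _ _)

variable (k : Type u) [Field k] [X.Over (Spec (CommRingCat.of k))] [IsProper (X ↘ Spec (CommRingCat.of k))]

include k in
/-- A global function on a connected proper scheme vanishes everywhere or nowhere. -/
theorem basicOpen_eq_bot_or_top [ConnectedSpace X] (f : Γ(X, ⊤)) :
    X.basicOpen f = ⊥ ∨ X.basicOpen f = ⊤ := by
  haveI := Euler.isNoetherian_of_proper (X := X) k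
  letI : Algebra k Γ(X, ⊤) := (Coh.toGlobal (X ↘ Spec (CommRingCat.of k))).toAlgebra
  haveI := Euler.finiteDimensional_HH k
    (Euler.isCoh_of_isInvertible (Euler.isInvertible_structure (X := X))) 0
  let φ : Coh.HH X (Coh.structureModule X) 0 →ₗ[k] Γ(X, ⊤) :=
    { toFun := fun z => ProjCoh.H0top (Coh.structureModule X) z
      map_add' := fun z z' => map_add (ProjCoh.H0top _) z z'
      map_smul' := fun r z => (ProjCoh.H0top_smul _ r z).trans rfl }
  haveI : Module.Finite k Γ(X, ⊤) := Module.Finite.of_surjective φ (ProjCoh.H0top _).surjective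
  haveI : IsArtinianRing Γ(X, ⊤) := IsArtinianRing.of_finite k _
  obtain ⟨n, g, hg⟩ := IsArtinian.exists_pow_succ_smul_dvd f (1 : Γ(X, ⊤))
  simp only [smul_eq_mul, mul_one, pow_succ] at hg
  have hpow : ∀ j, f ^ n = f ^ n * (f * g) ^ j := by
    intro j
    induction j with
    | zero => simp
    | succ j ih => rw [pow_succ, ← mul_assoc, ← ih, ← mul_assoc]; exact hg.symm
  let e := (f * g) ^ (n + 1)
  have hee : e * e = e := by
    simp only [e, mul_pow]
    calc f ^ (n + 1) * g ^ (n + 1) * (f ^ (n + 1) * g ^ (n + 1))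
        = (f ^ n * (f * g) ^ (n + 1)) * (f * g ^ (n + 1)) := by ring
      _ = f ^ (n + 1) * g ^ (n + 1) := by rw [← hpow]; ring
  have hfe : X.basicOpen f = X.basicOpen e := by
    ext x
    simp only [SetLike.mem_coe, Scheme.mem_basicOpen _ _ x (show x ∈ (⊤ : X.Opens) from trivial)]
    refine ⟨fun h => ?_, fun h => ?_⟩
    · have h1 := congrArg (X.presheaf.germ ⊤ x trivial) (hpow (n + 1))
      rw [map_mul, map_pow] at h1
      rw [← (h.pow n).mul_left_cancel ((mul_one _).trans h1)]
      exact isUnit_one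
    · rw [map_pow, map_mul, isUnit_pow_iff (Nat.succ_ne_zero n)] at h
      exact isUnit_of_mul_isUnit_left h
  rw [hfe]
  have hcompl : ((X.basicOpen e : X.Opens) : Set X)ᶜ = (X.basicOpen (1 - e) : X.Opens) := by
    ext x
    simp only [Set.mem_compl_iff, SetLike.mem_coe, Scheme.mem_basicOpen _ _ x (show x ∈ (⊤ : X.Opens) from trivial)]
    rw [map_sub, map_one]
    refine ⟨fun h => ?_, fun h hu => ?_⟩
    · exact (IsLocalRing.isUnit_or_isUnit_one_sub_self _).resolve_left h
    · have h1 := congrArg (X.presheaf.germ ⊤ x trivial) hee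
      rw [map_mul] at h1
      rw [hu.mul_left_cancel (h1.trans (mul_one _).symm), sub_self] at h
      exact not_isUnit_zero h
  have hcl : IsClopen ((X.basicOpen e : X.Opens) : Set X) :=
    ⟨isOpen_compl_iff.1 (hcompl ▸ (X.basicOpen (1 - e)).2), (X.basicOpen e).2⟩
  rcases isClopen_iff.1 hcl with h | h
  · exact Or.inl (Opens.ext h)
  · exact Or.inr (Opens.ext h)

variable (c : Cocycle X)

include k in
/-- In depth two the complement of the locus of a regular section of an ample cocycle is connected. -/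
theorem isConnected_compl_locus [ConnectedSpace X] (hc : c.IsAmp) {m : ℕ} (hm : 0 < m) (a : c.sect m ⊤)
    [Mono (c.hom a)]
    (hdepth : ∀ x : X, IsClosed ({x} : Set X) →
      2 ≤ LocCoh.depth (X.presheaf.stalk x) (X.presheaf.stalk x)) :
    IsConnected ((c.locus a : X.Opens) : Set X)ᶜ := by
  classical
  haveI := Euler.isNoetherian_of_proper (X := X) k
  let F := Coh.structureModule X
  have hF : Coh.IsCoh F := Euler.isCoh_of_isInvertible Euler.isInvertible_structure
  haveI := hF.1
  let eO : ∀ x : X, X.presheaf.stalk x ≃ₗ[X.presheaf.stalk x] F.presheaf.stalk x := fun x =>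
    (AssPts.exists_stalk_unit_equiv x).some
  have hdepth' : ∀ x : X, IsClosed ({x} : Set X) → 2 ≤ LocCoh.depth (X.presheaf.stalk x) (F.presheaf.stalk x) :=
    fun x hx => (hdepth x hx).trans (depth_congr (eO x)).le
  -- the germ of `a` is a nonzerodivisor
  have hnzd : ∀ (i : c.ι) (W : X.Opens) (hW : W ≤ c.D i) (r : Γ(X, W)),
      res (le_inf le_top hW) (a.1 i) * r = 0 → r = 0 := by
    intro i W hW r h
    refine Cohom.app_injective_of_mono (c.hom a) W ((?_ : (c.hom a).app W r = 0).trans (map_zero _).symm)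
    refine (c.hom_app_apply a W r).trans (c.sect_ext_of_le hW ?_)
    show res inf_le_left r * res (inf_le_inf_right _ le_top) (a.1 i) = 0
    have h2 := congrArg (res (inf_le_left : W ⊓ c.D i ≤ W)) h
    rw [map_mul, Ample.res_res, map_zero] at h2
    rw [mul_comm]
    exact h2
  have hT : ∀ x, Curv2.IsWeakAssPoint F x → x ∈ c.locus a := by
    rintro x ⟨n, hn⟩
    by_contra hxa
    obtain ⟨i, hi⟩ := c.exists_mem x
    obtain ⟨W₀, hx₀, r₀, hr₀⟩ := TopCat.Presheaf.exists_germ_eq F.presheaf n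
    let W : X.Opens := W₀ ⊓ c.D i
    have hxW : x ∈ W := ⟨hx₀, hi⟩
    let r : Γ(X, W) := res (inf_le_left : W ≤ W₀) r₀
    have hr : n = F.presheaf.germ W x hxW r := by
      rw [← hr₀]
      exact (TopCat.Presheaf.germ_res_apply F.presheaf (homOfLE (inf_le_left : W ≤ W₀)) x hxW r₀).symm
    let α : Γ(X, W) := res (le_inf le_top inf_le_right) (a.1 i)
    have hα : X.presheaf.germ W x hxW α ∈ IsLocalRing.maximalIdeal (X.presheaf.stalk x) := by
      refine (IsLocalRing.mem_maximalIdeal _).2 fun hu => hxa ((c.mem_locus_iff a hi).2 ?_)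
      simp only [α] at hu
      erw [TopCat.Presheaf.germ_res_apply] at hu
      exact (Scheme.mem_basicOpen _ _ x _).2 hu
    obtain ⟨E, hE⟩ : X.presheaf.germ W x hxW α ∈ Ideal.radical (LinearMap.ker
        (LinearMap.toSpanSingleton (X.presheaf.stalk x) (F.presheaf.stalk x) n)) := hn.symm ▸ hα
    rw [LinearMap.mem_ker, LinearMap.toSpanSingleton_apply, ← map_pow, hr, ← WeakAss.germ_smul] at hE
    obtain ⟨U, hxU, iU, iV, hU⟩ := TopCat.Presheaf.germ_eq F.presheaf x hxW hxW
      (α ^ E • (show Γ(F, W) from r)) (0 : Γ(F, W)) (hE.trans (map_zero _).symm)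
    have h3 : ∀ j, res iU.le α ^ j * res iU.le r = 0 → res iU.le r = 0 := by
      intro j
      induction j with
      | zero => intro h; simpa using h
      | succ j ih =>
        intro h
        refine ih (hnzd i U (iU.le.trans inf_le_right) _ ?_)
        rw [pow_succ', mul_assoc] at h
        refine (congrArg (fun t : Γ(X, U) => t * _) ?_).trans h
        exact (Ample.res_res _ _ _).symm
    have h4 : res iU.le r = 0 := h3 E (by
      rw [← map_pow, ← map_mul]
      exact hU.trans (map_zero _))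
    have hn0 : n = 0 := by
      rw [hr, ← TopCat.Presheaf.germ_res_apply F.presheaf iU x hxU]
      exact (congrArg (F.presheaf.germ U x hxU) h4).trans (map_zero _)
    refine (Ideal.ne_top_iff_one _).1 (IsLocalRing.maximalIdeal.isMaximal (X.presheaf.stalk x)).ne_top
      (hn ▸ Ideal.le_radical ?_)
    rw [LinearMap.mem_ker, LinearMap.toSpanSingleton_apply, hn0, smul_zero]
  -- non-emptiness
  have hne : ((c.locus a : X.Opens) : Set X)ᶜ.Nonempty := by
    obtain ⟨x, -, hx⟩ := (isClosed_univ (X := X)).exists_closed_singleton Set.univ_nonempty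
    have hnw := not_weakAss_of_depth hF (le_trans one_le_two (hdepth' x hx))
    have hsupp : x ∈ CohB1.support F := not_subsingleton_iff_nontrivial.2 (eO x).symm.toEquiv.nontrivial
    obtain ⟨y, hyx, hne⟩ : ∃ y, y ⤳ x ∧ y ≠ x := by
      by_contra hcon
      push Not at hcon
      exact hnw (WeakAss.isWeakAssPoint_of_maximal hsupp fun y _ hy => hcon y hy)
    have hy : ¬ IsClosed ({y} : Set X) := fun hcl =>
      hne (by simpa [hcl.closure_eq, eq_comm] using hyx.mem_closure)
    obtain ⟨z, -, hz⟩ := exists_notMem_locus c k hc hm a hy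
    exact ⟨z, hz⟩
  refine ⟨hne, isPreconnected_closed_iff.2 fun t t' ht ht' hcov hnt hnt' => ?_⟩
  by_contra hdisj
  let Z : Set X := ((c.locus a : X.Opens) : Set X)ᶜ
  have hZ : IsClosed Z := (c.locus a).2.isClosed_compl
  let A : Set X := Z ∩ t
  let B : Set X := Z ∩ t'
  have hAB : ∀ x, x ∈ A → x ∈ B → False := fun x hA hB => hdisj ⟨x, hA.1, hA.2, hB.2⟩
  obtain ⟨p₀, hp₀⟩ := eventually_H1_zero c k hc hF hdepth'
  let N := p₀ + 1
  let a' : c.sect (m * N) ⊤ := c.sectPow a N
  have hl : c.locus a' = c.locus a := c.locus_sectPow a (Nat.succ_pos _)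
  let μ := negHom c F a' (zero_add (m * N))
  haveI : Mono μ := mono_negHom c a' _ fun x hx => hl.symm ▸ hT x hx
  let S : ShortComplex X.Modules := ShortComplex.mk μ (cokernel.π μ) (cokernel.condition μ)
  have hS : S.ShortExact := by
    haveI : Mono S.f := ‹Mono μ›
    exact { exact := ShortComplex.exact_of_g_is_cokernel _ (cokernelIsCokernel μ) }
  let π := cokernel.π μ
  -- the section which is one near `A` and zero near `B`
  let one₀ : nsect c F 0 ⊤ := ⟨fun i => (1 : Γ(X, ⊤ ⊓ c.D i)), fun i j W hi hj => by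
    show res hi 1 = ((inv c).G i j _ _ ^ 0 : Γ(X, W)) * res hj 1
    rw [pow_zero, one_mul, map_one, map_one]⟩
  let q : Γ(cokernel μ, ⊤) := π.app ⊤ one₀
  let O₂ : ULift.{u} Bool → X.Opens := fun b =>
    cond b.down ⟨Bᶜ, (hZ.inter ht').isOpen_compl⟩ ⟨Aᶜ, (hZ.inter ht).isOpen_compl⟩
  let sec : ∀ b, Γ(cokernel μ, O₂ b) := fun b => cond b.down (mres _ le_top q) 0
  have hQzero : ∀ (W : X.Opens), W ≤ c.locus a → ∀ z : Γ(cokernel μ, W), z = 0 := fun W hW z =>
    QCoh.section_eq_zero_of_germ _ z fun x hx =>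
      @Subsingleton.elim _ (QCoh.stalk_subsingleton_of_notMem (QCoh.notMem_support_cokernel_of_surjective μ
        (bijective_stalk_negHom c a' _ (hl.symm ▸ hW hx)).2)) _ _
  obtain ⟨e, he, -⟩ := TopCat.Sheaf.existsUnique_gluing' ⟨(cokernel μ).presheaf, (cokernel μ).isSheaf⟩ O₂ ⊤
    (fun b => homOfLE le_top) (fun x _ => Opens.mem_iSup.2 (by
      by_cases hxB : x ∈ B
      · exact ⟨⟨false⟩, fun hxA => hAB x hxA hxB⟩
      · exact ⟨⟨true⟩, hxB⟩)) sec (fun b b' => by
      by_cases hbb : b = b'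
      · subst hbb; rfl
      · have hle : O₂ b ⊓ O₂ b' ≤ c.locus a := by
          intro x hx
          by_contra hxa
          rcases b with ⟨_ | _⟩ <;> rcases b' with ⟨_ | _⟩
          · exact hbb rfl
          · rcases hcov hxa with h | h
            · exact hx.1 ⟨hxa, h⟩
            · exact hx.2 ⟨hxa, h⟩
          · rcases hcov hxa with h | h
            · exact hx.2 ⟨hxa, h⟩
            · exact hx.1 ⟨hxa, h⟩
          · exact hbb rfl
        exact (hQzero _ hle _).trans (hQzero _ hle _).symm)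
  -- lift it
  haveI : Subsingleton (Coh.HH X S.X₁ (0 + 1)) := hp₀ _ (le_trans (Nat.le_succ p₀) (Nat.le_mul_of_pos_left _ hm))
  obtain ⟨z, hz⟩ := (Cohom.exact₃ (A := k) hS 0 ((ProjCoh.H0top _).symm e)).1 (Subsingleton.elim _ _)
  let zs : nsect c F 0 ⊤ := ProjCoh.H0top _ z
  have hze : π.app ⊤ zs = e := by
    have h := congrArg (ProjCoh.H0top _) hz
    rw [H0top_hhMap, AddEquiv.apply_symm_apply] at h
    exact h
  let zc : c.sect 0 ⊤ := ⟨zs.1, fun i j W hi hj => by
    have h : res hi (show Γ(X, ⊤ ⊓ c.D i) from zs.1 i) =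
      (show Γ(X, W) from (inv c).G i j (hi.trans inf_le_right) (hj.trans inf_le_right) ^ 0) *
      res hj (show Γ(X, ⊤ ⊓ c.D j) from zs.1 j) := (inv c).msect_spec zs i j hi hj
    rw [h, pow_zero, pow_zero]⟩
  have hfam : c.IsFamily 0 (M := F) fun i => (1 : Γ(X, c.D i)) := fun i j W hi hj => by
    show res hj (1 : Γ(X, c.D j)) = (show Γ(X, W) from c.G i j hi hj ^ 0) * res hi (1 : Γ(X, c.D i))
    rw [pow_zero, one_mul, map_one, map_one]
  let f : Γ(X, ⊤) := c.famApp hfam zc
  have hf : ∀ i, res (inf_le_left : ⊤ ⊓ c.D i ≤ ⊤) f = zs.1 i := fun i => by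
    refine (c.mres_famApp hfam zc i).trans ?_
    show (show Γ(X, ⊤ ⊓ c.D i) from zs.1 i) * res inf_le_right (1 : Γ(X, c.D i)) = (show Γ(X, ⊤ ⊓ c.D i) from zs.1 i)
    rw [map_one, mul_one]
  -- germs of `f` at the two parts
  have hgerm : ∀ (x : X), x ∈ Z → ∀ (w : nsect c F 0 ⊤), (cokernel μ).presheaf.germ ⊤ x trivial (π.app ⊤ w) = 0 →
      ∀ (i : c.ι) (hi : x ∈ c.D i),
        X.presheaf.germ (⊤ ⊓ c.D i) x ⟨trivial, hi⟩ (w.1 i) ∈ IsLocalRing.maximalIdeal (X.presheaf.stalk x) := by
    intro x hx w hw i hi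
    rw [← QCoh.stalkLin_germ] at hw
    have hex := (OX.exact_iff S).1 hS.exact x
    rw [ShortComplex.moduleCat_exact_iff] at hex
    obtain ⟨b, hb⟩ := hex _ hw
    change stalkLin μ x b = (nTwist c F 0).presheaf.germ ⊤ x trivial w at hb
    obtain ⟨W, hW, hxW, ν, rfl⟩ := exists_germBase c (m * N) i hi b
    rw [stalk_negHom_germBase, germBase, ← WeakAss.germ_smul] at hb
    obtain ⟨U, hxU, iU, iV, hU⟩ := TopCat.Presheaf.germ_eq (nTwist c F 0).presheaf x hxW
      (show x ∈ (⊤ : X.Opens) from trivial) _ w hb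
    have hc1 : res (inf_le_inf_right (c.D i) iU.le : U ⊓ c.D i ≤ W ⊓ c.D i)
        (res (inf_le_left : W ⊓ c.D i ≤ W) (res (le_inf le_top hW) (a'.1 i)) *
          (show Γ(X, W ⊓ c.D i) from ((inv c).mbase 0 i hW ν).1 i)) =
        res (inf_le_inf_right (c.D i) (le_top : U ≤ ⊤)) (w.1 i) :=
      congrArg (fun t : nsect c F 0 U => t.1 i) hU
    have hxUi : x ∈ U ⊓ c.D i := ⟨hxU, hi⟩
    have hc2 := congrArg (X.presheaf.germ (U ⊓ c.D i) x hxUi) hc1
    rw [map_mul, map_mul] at hc2
    erw [TopCat.Presheaf.germ_res_apply, TopCat.Presheaf.germ_res_apply, TopCat.Presheaf.germ_res_apply,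
      TopCat.Presheaf.germ_res_apply, TopCat.Presheaf.germ_res_apply] at hc2
    refine hc2 ▸ Ideal.mul_mem_right _ _ ((IsLocalRing.mem_maximalIdeal _).2 fun hu => hx ?_)
    show x ∈ c.locus a
    rw [← hl, c.mem_locus_iff _ hi]
    exact (Scheme.mem_basicOpen _ _ x _).2 hu
  have hgf : ∀ (x : X) (i : c.ι) (hi : x ∈ c.D i),
      X.presheaf.germ (⊤ ⊓ c.D i) x ⟨trivial, hi⟩ (zs.1 i) = X.presheaf.germ ⊤ x trivial f := fun x i hi => by
    rw [← hf i]
    exact TopCat.Presheaf.germ_res_apply X.presheaf _ x _ f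
  obtain ⟨p, hpZ, hpt⟩ := hnt
  obtain ⟨p', hp'Z, hpt'⟩ := hnt'
  have hp : X.presheaf.germ ⊤ p trivial f - 1 ∈ IsLocalRing.maximalIdeal (X.presheaf.stalk p) := by
    obtain ⟨i, hi⟩ := c.exists_mem p
    have hpU : p ∈ O₂ ⟨true⟩ := fun h => hAB p ⟨hpZ, hpt⟩ h
    have h := hgerm p hpZ (zs - one₀) (by
      rw [map_sub, map_sub, hze, sub_eq_zero,
        ← TopCat.Presheaf.germ_res_apply (cokernel μ).presheaf (homOfLE le_top) p hpU e]
      refine (congrArg ((cokernel μ).presheaf.germ _ p hpU) (he ⟨true⟩)).trans ?_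
      exact TopCat.Presheaf.germ_res_apply (cokernel μ).presheaf (homOfLE le_top) p hpU q) i hi
    rw [← hgf p i hi]
    change X.presheaf.germ (⊤ ⊓ c.D i) p ⟨trivial, hi⟩ ((show Γ(X, ⊤ ⊓ c.D i) from zs.1 i) - 1) ∈ _ at h
    rwa [map_sub, map_one] at h
  have hp' : X.presheaf.germ ⊤ p' trivial f ∈ IsLocalRing.maximalIdeal (X.presheaf.stalk p') := by
    obtain ⟨i, hi⟩ := c.exists_mem p'
    have hpV : p' ∈ O₂ ⟨false⟩ := fun h => hAB p' h ⟨hp'Z, hpt'⟩
    rw [← hgf p' i hi]
    refine hgerm p' hp'Z zs ?_ i hi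
    rw [hze, ← TopCat.Presheaf.germ_res_apply (cokernel μ).presheaf (homOfLE le_top) p' hpV e]
    exact (congrArg ((cokernel μ).presheaf.germ _ p' hpV) (he ⟨false⟩)).trans (map_zero _)
  rcases basicOpen_eq_bot_or_top (X := X) k f with h | h
  · have : p ∈ X.basicOpen f := by
      rw [Scheme.mem_basicOpen _ _ p (show p ∈ (⊤ : X.Opens) from trivial)]
      by_contra hu
      have := sub_mem ((IsLocalRing.mem_maximalIdeal _).2 hu) hp
      rw [sub_sub_cancel] at this
      exact (Ideal.ne_top_iff_one _).1 (IsLocalRing.maximalIdeal.isMaximal _).ne_top this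
    rw [h] at this
    exact this
  · have : p' ∈ X.basicOpen f := by rw [h]; trivial
    rw [Scheme.mem_basicOpen _ _ p' (show p' ∈ (⊤ : X.Opens) from trivial)] at this
    exact (IsLocalRing.mem_maximalIdeal _).1 hp' this

end GrothLib.NegTwist
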